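import Groth.Agent.Lib.Cohen.Structure
import Groth.Agent.Lib.H2Alg.PSHom
import Groth.Agent.Lib.CanElt.NIT
import Groth.Agent.Lib.ArtFun.PS
import Groth.Agent.Lib.CplLocH7.Basic
import Groth.Agent.Lib.Depth.CM
import Mathlib

/-! # Complete local domains are finite over power series rings -/

set_option autoImplicit false
universe u

open IsLocalRing MvPowerSeries


namespace Groth.Agent.CplDomain

open H2Alg

/-- Modules of finite length are finite over a ring surjecting onto the residue field. -/
theorem finite_of_isFiniteLength {R A : Type u} [CommRing R] [CommRing A] [IsLocalRing A] [Algebra R A]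
    (hres : Function.Surjective ((residue A).comp (algebraMap R A))) :
    ∀ (M : Type u) [AddCommGroup M] [Module A M], IsFiniteLength A M → ∀ [Module R M] [IsScalarTower R A M],
      Module.Finite R M := by
  intro M _ _ hM
  induction hM with
  | of_subsingleton => intro _ _; exact Module.Finite.of_finite
  | @of_simple_quotient M _ _ N hs hN ih =>
    intro _ _
    haveI : Module.Finite R N := ih
    haveI : Module.Finite R (M ⧸ N) := by
      obtain ⟨m, hm, ⟨e⟩⟩ := isSimpleModule_iff_quot_maximal.mp hs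
      obtain rfl := IsLocalRing.eq_maximalIdeal hm
      haveI : Module.Finite R (A ⧸ maximalIdeal A) :=
        Module.Finite.of_surjective (Algebra.linearMap R (A ⧸ maximalIdeal A)) fun x => by
          obtain ⟨r, hr⟩ := hres x
          exact ⟨r, hr⟩
      exact Module.Finite.equiv (e.restrictScalars R).symm
    haveI : Module.Finite R (N.restrictScalars R) := ‹Module.Finite R N›
    haveI : Module.Finite R (M ⧸ N.restrictScalars R) := Module.Finite.equiv (Submodule.Quotient.restrictScalarsEquiv R N).symm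
    exact Module.Finite.of_submodule_quotient (N.restrictScalars R)

/-- Finite modules over a complete ring detected on the reduction. -/
theorem finite_of_reduction {R A : Type u} [CommRing R] [CommRing A] [Algebra R A] (I : Ideal R) [IsNoetherianRing R]
    [IsAdicComplete I R] [IsHausdorff (I.map (algebraMap R A)) A]
    [Module.Finite R (A ⧸ I.map (algebraMap R A))] : Module.Finite R A := by
  obtain ⟨t, s, hs⟩ := Module.Finite.exists_fin' R (A ⧸ I.map (algebraMap R A))
  choose e he using fun i => Ideal.Quotient.mk_surjective (I := I.map (algebraMap R A)) (s (Pi.single i 1))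
  haveI : IsAdicComplete I (Fin t → R) := Compl.isAdicComplete_of_finite I _
  haveI : IsHausdorff I A := IsHausdorff.map_algebraMap_iff.1 ‹IsHausdorff (I.map (algebraMap R A)) A›
  refine Module.Finite.of_surjective (Fintype.linearCombination R e) (surjective_of_mkQ_comp_surjective (I := I) fun y => ?_)
  obtain ⟨y, rfl⟩ := Submodule.mkQ_surjective _ y
  obtain ⟨c, hc⟩ := hs (Ideal.Quotient.mk _ y)
  refine ⟨c, ?_⟩
  have key : (Ideal.Quotient.mkₐ R (I.map (algebraMap R A))).toLinearMap ∘ₗ Fintype.linearCombination R e = s := by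
    refine LinearMap.pi_ext fun i x => ?_
    rw [LinearMap.comp_apply, Fintype.linearCombination_apply_single, map_smul,
      show Pi.single i x = x • (Pi.single i 1 : Fin t → R) by rw [← Pi.single_smul', smul_eq_mul, mul_one], map_smul, ← he]
    rfl
  rw [LinearMap.comp_apply, Submodule.mkQ_apply, Submodule.mkQ_apply, Submodule.Quotient.eq,
    Ideal.smul_top_eq_map, Submodule.restrictScalars_mem, ← Ideal.Quotient.mk_eq_mk_iff_sub_mem, ← hc, ← key]
  rfl

/-- A complete local ring has a coefficient field or a Cohen ring in it. -/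
theorem exists_coefficient (A : Type u) [CommRing A] [IsLocalRing A] [IsAdicComplete (maximalIdeal A) A] :
    ∃ (Λ : Type u) (_ : CommRing Λ) (f : Λ →+* A), Function.Surjective ((residue A).comp f) ∧
      ((IsField Λ) ∨ (CAlg.IsCohenRing Λ ∧ ∃ p : ℕ, p.Prime ∧ (p : A) ∈ maximalIdeal A ∧
        ∃ (_ : IsLocalRing Λ), maximalIdeal Λ = Ideal.span {(p : Λ)})) := by
  have hI : (Cohen.Filt.ofAdic (maximalIdeal A)).I 1 = RingHom.ker (residue A) := by
    rw [ker_residue]
    exact pow_one _
  obtain ⟨q, hq⟩ := CharP.exists (ResidueField A)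
  rcases CharP.char_is_prime_or_zero (ResidueField A) q with hp | hp
  · haveI : Fact q.Prime := ⟨hp⟩
    obtain ⟨Λ, i1, i2, f, hΛ, hmax, -, hs⟩ := Cohen.exists_cohen_map (p := q) _ (residue A) residue_surjective hI
    refine ⟨Λ, i1, f, hs, Or.inr ⟨hΛ, q, hp, ?_, i2, hmax⟩⟩
    rw [← residue_eq_zero_iff, map_natCast, CharP.cast_eq_zero]
  · subst hp
    haveI : CharZero (ResidueField A) := CharP.charP_to_charZero _
    obtain ⟨g, hg⟩ := Cohen.exists_lift_charZero _ (residue A) residue_surjective hI
    exact ⟨ResidueField A, inferInstance, g, fun x => ⟨x, hg x⟩, Or.inl (Field.toIsField _)⟩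

variable (A : Type u) [CommRing A] [IsDomain A] [IsLocalRing A] [IsNoetherianRing A] [IsAdicComplete (maximalIdeal A) A]

/-- Power series in a parameter system embed finitely. -/
theorem finite_injective_of_parameters {Λ : Type u} [CommRing Λ] [IsNoetherianRing Λ] [IsLocalRing Λ]
    [IsAdicComplete (maximalIdeal Λ) Λ] (g : Λ →+* A) (hg : Function.Surjective ((residue A).comp g))
    (hgm : (maximalIdeal Λ).map g ≤ maximalIdeal A) [IsDomain Λ] (n : ℕ) (z : Fin n → A)
    (hz : ∀ i, z i ∈ maximalIdeal A) (N : ℕ)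
    (hN : maximalIdeal A ^ N ≤ (maximalIdeal Λ).map g ⊔ Ideal.span (Set.range z))
    (hdim : ringKrullDim (MvPowerSeries (Fin n) Λ) ≤ ringKrullDim A) :
    ∃ φ : MvPowerSeries (Fin n) Λ →+* A, Function.Injective φ ∧ φ.Finite ∧
      (∀ a, φ (MvPowerSeries.C a) = g a) ∧ Function.Surjective ((residue A).comp φ) := by
  letI := g.toAlgebra
  obtain ⟨ψ, hψ⟩ := PSHom.exists_algHom (A := Λ) (maximalIdeal A) z hz
  have hC : ∀ a, ψ (MvPowerSeries.C a) = g a := fun a => ψ.commutes a
  letI : Algebra (MvPowerSeries (Fin n) Λ) A := ψ.toRingHom.toAlgebra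
  set I := maximalIdeal (MvPowerSeries (Fin n) Λ) with hI
  haveI : IsAdicComplete I (MvPowerSeries (Fin n) Λ) := by
    exact ArtFunLib.isAdicComplete_mvPowerSeries
  have hImap : I.map (algebraMap (MvPowerSeries (Fin n) Λ) A) = (maximalIdeal Λ).map g ⊔ Ideal.span (Set.range z) := by
    rw [hI, Cohen.maximalIdeal_mvPowerSeries, Ideal.map_sup, Ideal.map_map]
    congr 1
    · congr 1
      exact RingHom.ext fun a => hC a
    · rw [PSHom.V, Ideal.map_span, ← Set.range_comp]
      congr 2
      exact funext hψ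
  have hres : Function.Surjective ((residue A).comp (algebraMap (MvPowerSeries (Fin n) Λ) A)) := fun x => by
    obtain ⟨a, ha⟩ := hg x
    exact ⟨MvPowerSeries.C a, by rw [← ha]; exact congrArg (residue A) (hC a)⟩
  have hle : I.map (algebraMap (MvPowerSeries (Fin n) Λ) A) ≤ maximalIdeal A := by
    rw [hImap]
    exact sup_le hgm (Ideal.span_le.mpr (by rintro _ ⟨i, rfl⟩; exact hz i))
  haveI : IsHausdorff (I.map (algebraMap (MvPowerSeries (Fin n) Λ) A)) A :=
    ⟨fun x hx => IsHausdorff.haus' (I := maximalIdeal A) x fun k => (hx k).mono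
      (Submodule.smul_mono_left (Ideal.pow_right_mono hle k))⟩
  haveI : IsArtinianRing (A ⧸ I.map (algebraMap (MvPowerSeries (Fin n) Λ) A)) := by
    haveI : Nontrivial (A ⧸ I.map (algebraMap (MvPowerSeries (Fin n) Λ) A)) :=
      Ideal.Quotient.nontrivial_iff.mpr (ne_top_of_le_ne_top (maximalIdeal.isMaximal A).ne_top hle)
    haveI : IsLocalRing (A ⧸ I.map (algebraMap (MvPowerSeries (Fin n) Λ) A)) :=
      IsLocalRing.of_surjective' _ Ideal.Quotient.mk_surjective
    exact (isArtinianRing_iff_isNilpotent_maximalIdeal _).mpr ⟨N, by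
      rw [← IsLocalRing.map_maximalIdeal_of_surjective _ Ideal.Quotient.mk_surjective, ← Ideal.map_pow]
      exact Ideal.map_mk_eq_bot_of_le (hImap ▸ hN)⟩
  have hfl : IsFiniteLength A (A ⧸ I.map (algebraMap (MvPowerSeries (Fin n) Λ) A)) :=
    isFiniteLength_iff_isNoetherian_isArtinian.mpr
      ⟨inferInstance, isArtinian_of_surjective_algebraMap (R := A ⧸ I.map (algebraMap (MvPowerSeries (Fin n) Λ) A)) Ideal.Quotient.mk_surjective⟩
  haveI : Module.Finite (MvPowerSeries (Fin n) Λ) (A ⧸ I.map (algebraMap (MvPowerSeries (Fin n) Λ) A)) :=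
    finite_of_isFiniteLength hres _ hfl
  haveI hfin : Module.Finite (MvPowerSeries (Fin n) Λ) A := finite_of_reduction I
  refine ⟨ψ.toRingHom, ?_, hfin, hC, hres⟩
  rw [RingHom.injective_iff_ker_eq_bot]
  by_contra hne
  set P := MvPowerSeries (Fin n) Λ
  obtain ⟨x, hx, hx0⟩ := Submodule.exists_mem_ne_zero_of_ne_bot hne
  letI : Algebra (P ⧸ RingHom.ker ψ.toRingHom) A := (RingHom.kerLift ψ.toRingHom).toAlgebra
  haveI : Algebra.IsIntegral (P ⧸ RingHom.ker ψ.toRingHom) A :=
    algebraMap_isIntegral_iff.mp (RingHom.IsIntegral.tower_top (Ideal.Quotient.mk (RingHom.ker ψ.toRingHom))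
      (RingHom.kerLift ψ.toRingHom) (algebraMap_isIntegral_iff.mpr (Algebra.IsIntegral.of_finite P A)))
  have h1 : ringKrullDim A ≤ ringKrullDim (P ⧸ RingHom.ker ψ.toRingHom) :=
    Order.krullDim_le_of_strictMono (PrimeSpectrum.comap (algebraMap (P ⧸ RingHom.ker ψ.toRingHom) A))
      fun x y hlt => Ideal.IsIntegral.comap_lt_comap hlt
  have h2 : ringKrullDim (P ⧸ RingHom.ker ψ.toRingHom) + 1 ≤ ringKrullDim P :=
    (add_le_add (ringKrullDim_le_of_surjective (Ideal.Quotient.factor (S := Ideal.span {x}) (T := RingHom.ker ψ.toRingHom) ((Ideal.span_singleton_le_iff_mem _).mpr hx))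
      (Ideal.Quotient.factor_surjective _)) le_rfl).trans
      (ringKrullDim_quotient_succ_le_of_nonZeroDivisor (mem_nonZeroDivisors_of_ne_zero hx0))
  obtain ⟨a, ha⟩ := DepthLib.exists_supportDim_eq_natCast (R := A) (M := A)
  haveI : Nontrivial (P ⧸ RingHom.ker ψ.toRingHom) := Ideal.Quotient.nontrivial_iff.mpr (RingHom.ker_ne_top _)
  haveI : IsLocalRing (P ⧸ RingHom.ker ψ.toRingHom) := IsLocalRing.of_surjective' _ Ideal.Quotient.mk_surjective
  obtain ⟨b, hb⟩ := DepthLib.exists_supportDim_eq_natCast (R := P ⧸ RingHom.ker ψ.toRingHom) (M := P ⧸ RingHom.ker ψ.toRingHom)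
  obtain ⟨c, hc⟩ := DepthLib.exists_supportDim_eq_natCast (R := P) (M := P)
  rw [Module.supportDim_self_eq_ringKrullDim] at ha hb hc
  rw [ha, hb] at h1
  rw [hb, hc] at h2
  rw [ha, hc] at hdim
  norm_cast at h1 h2 hdim
  omega

/-- A complete Noetherian local domain is finite over a power series ring. -/
theorem exists_finite_injective :
    ∃ (Λ : Type u) (_ : CommRing Λ) (n : ℕ) (f : MvPowerSeries (Fin n) Λ →+* A),
      (IsField Λ ∨ (CAlg.IsCohenRing Λ ∧ ringChar A = 0)) ∧
      Function.Injective f ∧ f.Finite ∧ Function.Surjective ((residue A).comp f) := by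
  obtain ⟨Λ, i1, g, hg, hcases⟩ := exists_coefficient A
  have field_case : ∀ (k : Type u) [Field k] (g : k →+* A), Function.Surjective ((residue A).comp g) →
      ∃ (n : ℕ) (f : MvPowerSeries (Fin n) k →+* A),
        Function.Injective f ∧ f.Finite ∧ Function.Surjective ((residue A).comp f) := by
    intro k _ g hg
    obtain ⟨d, hd⟩ := DepthLib.exists_supportDim_eq_natCast (R := A) (M := A)
    rw [Module.supportDim_self_eq_ringKrullDim] at hd
    obtain ⟨x, hx, ⟨N, hN⟩, -⟩ := CanElt.exists_sop A d hd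
    haveI : IsAdicComplete (maximalIdeal k) k := by
      rw [show maximalIdeal k = ⊥ from IsLocalRing.maximalIdeal_eq_bot]; infer_instance
    obtain ⟨φ, h1, h2, -, h4⟩ := finite_injective_of_parameters A g hg
      (by rw [show maximalIdeal k = ⊥ from IsLocalRing.maximalIdeal_eq_bot, Ideal.map_bot]; exact bot_le)
      d x hx N (hN.trans le_sup_right) (by rw [hd, PSHom.ringKrullDim_eq])
    exact ⟨d, φ, h1, h2, h4⟩
  rcases hcases with hF | ⟨hcoh, p, hp, hpm, i2, hmax⟩
  · letI := hF.toField
    obtain ⟨n, f, hf⟩ := field_case Λ g hg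
    exact ⟨Λ, i1, n, f, Or.inl hF, hf⟩
  by_cases hpA : (p : A) = 0
  · haveI : (maximalIdeal Λ).IsMaximal := inferInstance
    letI : Field (Λ ⧸ maximalIdeal Λ) := Ideal.Quotient.field _
    have hker : ∀ a ∈ maximalIdeal Λ, g a = 0 := fun a ha => by
      rw [hmax, Ideal.mem_span_singleton] at ha
      obtain ⟨b, rfl⟩ := ha
      rw [map_mul, map_natCast, hpA, zero_mul]
    obtain ⟨n, f, hf⟩ := field_case (Λ ⧸ maximalIdeal Λ) (Ideal.Quotient.lift _ g hker) fun x => by
      obtain ⟨a, ha⟩ := hg x
      exact ⟨Ideal.Quotient.mk _ a, ha⟩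
    exact ⟨Λ ⧸ maximalIdeal Λ, inferInstance, n, f, Or.inl (Field.toIsField _), hf⟩
  obtain ⟨iD, iV, hcompl, p', hp', hmax'⟩ := hcoh
  haveI := hcompl
  have hchar : ringChar A = 0 := by
    obtain ⟨q, hq⟩ := CharP.exists A
    rw [ringChar.eq A q]
    rcases CharP.char_is_prime_or_zero A q with hq' | hq'
    · exfalso
      haveI : CharP (ResidueField A) q := (CharP.charP_iff_prime_eq_zero hq').mpr (by
        rw [← map_natCast (residue A), CharP.cast_eq_zero, map_zero])
      have : (p : ResidueField A) = 0 := by rw [← map_natCast (residue A), residue_eq_zero_iff]; exact hpm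
      rw [CharP.cast_eq_zero_iff (ResidueField A) q] at this
      rw [(Nat.prime_dvd_prime_iff_eq hq' hp).mp this] at hq
      exact hpA (CharP.cast_eq_zero A p)
    · exact hq'
  obtain ⟨d, hd⟩ := DepthLib.exists_supportDim_eq_natCast (R := A) (M := A)
  rw [Module.supportDim_self_eq_ringKrullDim] at hd
  let Ap := A ⧸ Ideal.span {(p : A)}
  haveI : Nontrivial Ap := Ideal.Quotient.nontrivial_iff.mpr
    (ne_top_of_le_ne_top (maximalIdeal.isMaximal A).ne_top ((Ideal.span_singleton_le_iff_mem _).mpr hpm))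
  haveI : IsLocalRing Ap := IsLocalRing.of_surjective' _ Ideal.Quotient.mk_surjective
  obtain ⟨e, he⟩ := DepthLib.exists_supportDim_eq_natCast (R := Ap) (M := Ap)
  rw [Module.supportDim_self_eq_ringKrullDim] at he
  have hdim : ringKrullDim Ap + 1 = ringKrullDim A :=
    ringKrullDim_quotient_span_singleton_succ_eq_ringKrullDim_of_mem_nonZeroDivisors
      (mem_nonZeroDivisors_of_ne_zero hpA) hpm
  rw [he, hd] at hdim
  norm_cast at hdim
  obtain ⟨x, hx, ⟨N, hN⟩, -⟩ := CanElt.exists_sop Ap e he
  choose z hz using fun i => Ideal.Quotient.mk_surjective (x i)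
  have hzm : ∀ i, z i ∈ maximalIdeal A := fun i => by
    rw [← IsLocalRing.map_maximalIdeal_of_surjective (Ideal.Quotient.mk (Ideal.span {(p : A)})) Ideal.Quotient.mk_surjective] at hx
    have := hx i
    rw [← hz i, ← Ideal.mem_comap, Ideal.comap_map_of_surjective _ Ideal.Quotient.mk_surjective,
      ← RingHom.ker_eq_comap_bot, Ideal.mk_ker, sup_eq_left.mpr ((Ideal.span_singleton_le_iff_mem _).mpr hpm)] at this
    exact this
  have hgm : (maximalIdeal Λ).map g = Ideal.span {(p : A)} := by
    rw [hmax, Ideal.map_span, Set.image_singleton, map_natCast]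
  obtain ⟨φ, h1, h2, -, h4⟩ := finite_injective_of_parameters A g hg
    (hgm.le.trans ((Ideal.span_singleton_le_iff_mem _).mpr hpm)) e z hzm N (by
      rw [hgm]
      intro a ha
      have h := Ideal.mem_map_of_mem (Ideal.Quotient.mk (Ideal.span {(p : A)})) ha
      rw [Ideal.map_pow, IsLocalRing.map_maximalIdeal_of_surjective _ Ideal.Quotient.mk_surjective] at h
      have h := hN h
      rw [← show Ideal.Quotient.mk (Ideal.span {(p : A)}) ∘ z = x from funext hz, Set.range_comp, ← Ideal.map_span,
        ← Ideal.mem_comap, Ideal.comap_map_of_surjective _ Ideal.Quotient.mk_surjective, ← RingHom.ker_eq_comap_bot,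
        Ideal.mk_ker, sup_comm] at h
      exact h) (by
      rw [hd, ← hdim]
      refine (ringKrullDim_le_spanFinrank_maximalIdeal _).trans ?_
      rw [Cohen.maximalIdeal_mvPowerSeries, hmax, Ideal.map_span, Set.image_singleton, PSHom.V, ← Ideal.span_union,
        Ideal.span]
      exact_mod_cast (Submodule.spanFinrank_span_le_ncard_of_finite
        ((Set.finite_singleton _).union (Set.finite_range _))).trans ((Set.ncard_union_le _ _).trans (by
          rw [Set.ncard_singleton, add_comm]
          refine add_le_add ?_ le_rfl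
          rw [← Set.image_univ]
          exact (Set.ncard_image_le Set.finite_univ).trans (by simp))))
  exact ⟨Λ, i1, e, φ, Or.inr ⟨⟨iD, iV, hcompl, p', hp', hmax'⟩, hchar⟩, h1, h2, h4⟩

end Groth.Agent.CplDomain
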