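import Groth.Agent.Lib.CplDomain.GRegular
import Groth.Agent.Lib.CplDomain.Normalization
import Groth.Agent.Lib.FlatDepth.CplQuot
import Groth.Agent.Lib.FlatDepth.CplMap
import Groth.Agent.Lib.FlatDepth.RingFib
import Groth.Agent.Lib.Cohen.Structure
import Groth.Agent.S9405
import Mathlib

/-! # Complete local rings are G-rings -/

set_option autoImplicit false
universe u

open IsLocalRing TensorProduct

namespace Groth.Agent.CplDomain

attribute [local instance] Algebra.TensorProduct.rightAlgebra

/-- Noetherianity of a base change of an essentially finite type algebra. -/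
theorem isNoetherianRing_tensor_essFiniteType (R T L : Type u) [CommRing R] [CommRing T] [CommRing L] [Algebra R T]
    [Algebra R L] [IsNoetherianRing T] [Algebra.EssFiniteType R L] : IsNoetherianRing (L ⊗[R] T) :=
  haveI := Algebra.EssFiniteType.isNoetherianRing T (T ⊗[R] L)
  isNoetherianRing_of_ringEquiv (T ⊗[R] L) (Algebra.TensorProduct.comm R T L).toRingEquiv

/-- Localization of the first factor preserves regularity. -/
theorem isRegularRing_tensor_localization (A S L : Type u) [CommRing A] [CommRing S] [CommRing L] [Algebra A S]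
    [Algebra A L] (M : Submonoid S) (S' : Type u) [CommRing S'] [Algebra S S'] [IsLocalization M S'] [Algebra A S']
    [IsScalarTower A S S'] (h : IsRegularRing (S ⊗[A] L)) : IsRegularRing (S' ⊗[A] L) := by
  haveI := h
  haveI : IsRegularRing ((S ⊗[A] L) ⊗[S] S') :=
    FlatDepth.isRegularRing_of_isLocalization (Algebra.algebraMapSubmonoid (S ⊗[A] L) M)
  exact @IsRegularRing.of_ringEquiv _ _ _ _
    ((Algebra.TensorProduct.comm S (S ⊗[A] L) S').toRingEquiv.trans
      (Algebra.TensorProduct.cancelBaseChange A S S S' L).toRingEquiv) ‹IsRegularRing ((S ⊗[A] L) ⊗[S] S')›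

/-- Regularity of a completion fibre from a complete flat extension. -/
theorem regular_cpl_of_extension {A : Type u} [CommRing A] (A' : Type u) [CommRing A'] [IsLocalRing A'] [IsNoetherianRing A']
    [Algebra A A'] (M : Submonoid A) [IsLocalization M A'] (S' : Type u) [CommRing S'] [IsLocalRing S'] [IsNoetherianRing S']
    [hcompl : IsAdicComplete (maximalIdeal S') S'] [Algebra A S'] [Algebra A' S'] [IsScalarTower A A' S']
    [IsLocalHom (algebraMap A' S')] [hflat : Module.Flat A' S'] (L : Type u) [Field L] [Algebra A L] [Algebra A' L]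
    [IsScalarTower A A' L] [Algebra.EssFiniteType A' L] (h : IsRegularRing (S' ⊗[A] L)) :
    IsRegularRing (L ⊗[A'] EGA4.Cpl A') := by
  haveI := IsLocalization.tensorProduct_compatibleSMul M A' S' L
  haveI hS'A' : IsRegularRing (S' ⊗[A'] L) := @IsRegularRing.of_ringEquiv _ _ _ _
    (Algebra.TensorProduct.equivOfCompatibleSMul A A' S' S' L).symm.toRingEquiv h
  obtain ⟨_, htow, hff⟩ := FlatDepth.exists_cpl_tower A' S'
  haveI := htow
  haveI := hff hflat
  let CA := EGA4.Cpl A'
  let CS := EGA4.Cpl S'
  let eCS : S' ≃ₐ[A'] CS := AlgEquiv.ofBijective (IsScalarTower.toAlgHom A' S' CS)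
    (AdicCompletion.of_bijective_iff.2 hcompl)
  haveI hCS : IsRegularRing (CS ⊗[A'] L) := @IsRegularRing.of_ringEquiv _ _ _ _
    (Algebra.TensorProduct.congr eCS (AlgEquiv.refl : L ≃ₐ[A'] L)).toRingEquiv hS'A'
  haveI hB : IsRegularRing ((CA ⊗[A'] L) ⊗[CA] CS) := @IsRegularRing.of_ringEquiv _ _ _ _
    ((Algebra.TensorProduct.cancelBaseChange A' CA CA CS L).symm.toRingEquiv.trans
      (Algebra.TensorProduct.comm CA CS (CA ⊗[A'] L)).toRingEquiv) hCS
  haveI : IsNoetherianRing (CA ⊗[A'] L) := Algebra.EssFiniteType.isNoetherianRing CA _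
  exact @IsRegularRing.of_ringEquiv _ _ _ _ (Algebra.TensorProduct.comm A' CA L).toRingEquiv
    (FlatDepth.regular_of_faithfullyFlat (A := CA ⊗[A'] L) (B := (CA ⊗[A'] L) ⊗[CA] CS))

/-- A point of the formal fibre over a prime. -/
theorem exists_point (P : Type u) [CommRing P] [IsNoetherianRing P] (A : Type u) [CommRing A] [Algebra P A] [Module.Finite P A]
    (m : Ideal A) [m.IsPrime] :
    ∃ Q : Ideal (A ⊗[P] EGA4.Cpl (Localization.AtPrime (m.under P))), Q.IsMaximal ∧
      Q.comap (algebraMap A (A ⊗[P] EGA4.Cpl (Localization.AtPrime (m.under P)))) = m := by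
  let n := m.under P
  let R := Localization.AtPrime n
  let T := EGA4.Cpl R
  let ρ : n.ResidueField →+* m.ResidueField := Ideal.ResidueField.map n m (algebraMap P A) rfl
  let τ : T →+* m.ResidueField := ρ.comp (AdicCompletion.evalOneₐ (maximalIdeal R)).toRingHom
  have hτ : ∀ a : P, τ (algebraMap P T a) = algebraMap A m.ResidueField (algebraMap P A a) := fun a => by
    show ρ ((AdicCompletion.evalOneₐ (maximalIdeal R)) (algebraMap P T a)) = _
    rw [IsScalarTower.algebraMap_apply P R T, AlgHom.commutes]
    exact Ideal.ResidueField.map_algebraMap ..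
  let τP : T →ₐ[P] m.ResidueField :=
    { toRingHom := τ
      commutes' := fun a => (hτ a).trans (IsScalarTower.algebraMap_apply P A m.ResidueField a).symm }
  let g : A ⊗[P] T →ₐ[P] m.ResidueField :=
    Algebra.TensorProduct.lift (IsScalarTower.toAlgHom P A m.ResidueField) τP fun _ _ => Commute.all _ _
  let Q : Ideal (A ⊗[P] T) := RingHom.ker g.toRingHom
  haveI : Q.IsPrime := RingHom.ker_isPrime _
  haveI : Module.Finite T (A ⊗[P] T) := Module.Finite.equiv (Algebra.TensorProduct.commRight P T A).toLinearEquiv
  haveI : Algebra.IsIntegral T (A ⊗[P] T) := Algebra.IsIntegral.of_finite T _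
  have hgT : ∀ t : T, g (algebraMap T (A ⊗[P] T) t) = τ t := fun t => by
    rw [Algebra.TensorProduct.right_algebraMap_apply, Algebra.TensorProduct.lift_tmul, map_one, one_mul]
    rfl
  have hQT : Q.comap (algebraMap T (A ⊗[P] T)) = maximalIdeal T := by
    refine le_antisymm (IsLocalRing.le_maximalIdeal (Ideal.IsPrime.comap (algebraMap T (A ⊗[P] T))).ne_top) ?_
    rw [CplLocH7.maximalIdeal_cpl, Ideal.map_le_iff_le_comap]
    intro x hx
    show g (algebraMap T (A ⊗[P] T) (algebraMap R T x)) = 0
    rw [hgT]
    show ρ ((AdicCompletion.evalOneₐ (maximalIdeal R)) (algebraMap R T x)) = 0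
    rw [AlgHom.commutes, Ideal.Quotient.algebraMap_eq, Ideal.Quotient.eq_zero_iff_mem.2 hx]
    exact map_zero ρ
  refine ⟨Q, Ideal.isMaximal_of_isIntegral_of_isMaximal_comap Q (hQT ▸ maximalIdeal.isMaximal T), ?_⟩
  ext a
  show g (algebraMap A (A ⊗[P] T) a) = 0 ↔ a ∈ m
  rw [Algebra.TensorProduct.algebraMap_apply, Algebra.algebraMap_self_apply, Algebra.TensorProduct.lift_tmul, map_one, mul_one]
  exact Ideal.algebraMap_residueField_eq_zero

/-- Fibres of completion maps of localizations of a finite algebra. -/
theorem regular_completion_fibre (P : Type u) [CommRing P] [IsNoetherianRing P]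
    (A : Type u) [CommRing A] [Algebra P A] [Module.Finite P A]
    (m : Ideal A) [m.IsPrime] (L : Type u) [Field L] [Algebra P L] [Algebra A L] [IsScalarTower P A L]
    [Algebra (Localization.AtPrime m) L] [IsScalarTower A (Localization.AtPrime m) L]
    [Algebra.EssFiniteType (Localization.AtPrime m) L]
    [hAT : IsNoetherianRing A]
    (h : IsRegularRing (L ⊗[P] EGA4.Cpl (Localization.AtPrime (m.under P)))) :
    IsRegularRing (L ⊗[Localization.AtPrime m] EGA4.Cpl (Localization.AtPrime m)) := by
  obtain ⟨Q, hQmax, hQm⟩ := exists_point P A m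
  let T := EGA4.Cpl (Localization.AtPrime (m.under P))
  let S := A ⊗[P] T
  let A' := Localization.AtPrime m
  haveI : Module.Finite T S := Module.Finite.equiv (Algebra.TensorProduct.commRight P T A).toLinearEquiv
  haveI := hQmax.isPrime
  haveI : IsAdicComplete (maximalIdeal T) T := by
    rw [CplLocH7.maximalIdeal_cpl]
    exact (IsAdicComplete.map_algebraMap_iff _ _).2 (AdicCompletion.isAdicComplete (IsNoetherian.noetherian _))
  obtain ⟨hnoeth, hcompl⟩ := (S9405.result T S).2.2 ⟨Q, hQmax⟩
  let S' := Localization.AtPrime Q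
  haveI : IsLocalRing S' := inferInstanceAs (IsLocalRing (Localization.AtPrime Q))
  haveI : IsNoetherianRing S' := hnoeth
  haveI : Q.LiesOver m := ⟨hQm.symm⟩
  letI := Localization.AtPrime.algebraOfLiesOver m Q
  haveI : IsLocalHom (algebraMap A' S') :=
    Localization.isLocalHom_localRingHom m Q (algebraMap A S) hQm.symm
  haveI : Module.Flat (Localization.AtPrime (m.under P)) T := AdicCompletion.flat_of_isNoetherian _
  haveI : Module.Flat P T := Module.Flat.trans P (Localization.AtPrime (m.under P)) T
  haveI : Module.Flat A S := inferInstance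
  haveI : Module.Flat S S' := IsLocalization.flat S' Q.primeCompl
  haveI : Module.Flat A S' := Module.Flat.trans A S S'
  have hflat : Module.Flat A' S' := (Module.flat_iff_of_isLocalization A' m.primeCompl S').2 inferInstance
  -- regularity after base change
  haveI hW : IsRegularRing (S ⊗[A] L) := @IsRegularRing.of_ringEquiv _ _ _ _
    ((Algebra.TensorProduct.cancelBaseChange P A A L T).symm.toRingEquiv.trans (Algebra.TensorProduct.comm A L S).toRingEquiv) h
  exact @regular_cpl_of_extension A _ A' _ _ _ _ m.primeCompl _ S' _ _ hnoeth hcompl _ _ _ _ hflat L _ _ _ _ _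
    (isRegularRing_tensor_localization A S L Q.primeCompl S' hW)

/-- Generic formal fibres of localizations of complete local domains. -/
theorem regular_completion_fibre_domain (A : Type u) [CommRing A] [IsDomain A] [IsLocalRing A] [IsNoetherianRing A]
    [IsAdicComplete (maximalIdeal A) A] (m : Ideal A) [m.IsPrime] (k : Type u) [Field k] [Algebra A k] [IsFractionRing A k]
    (L : Type u) [Field L] [Algebra k L] [Module.Finite k L] [Algebra A L] [IsScalarTower A k L]
    [Algebra (Localization.AtPrime m) L] [IsScalarTower A (Localization.AtPrime m) L] :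
    IsRegularRing (L ⊗[Localization.AtPrime m] EGA4.Cpl (Localization.AtPrime m)) := by
  obtain ⟨Λ, i1, N, φ, hΛ, hinj, hfin, -⟩ := exists_finite_injective A
  suffices key : ∀ [IsRegularLocalRing Λ] [IsAdicComplete (maximalIdeal Λ) Λ],
      IsRegularRing (L ⊗[Localization.AtPrime m] EGA4.Cpl (Localization.AtPrime m)) by
    rcases hΛ with hF | ⟨hcoh, -⟩
    · letI := hF.toField
      haveI : IsAdicComplete (maximalIdeal Λ) Λ := by
        rw [show maximalIdeal Λ = ⊥ from IsLocalRing.maximalIdeal_eq_bot]; infer_instance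
      exact key
    · obtain ⟨_, _, hc, -⟩ := hcoh
      haveI := hc
      exact key
  intro _ _
  let P := MvPowerSeries (Fin N) Λ
  haveI : IsRegularLocalRing P := Cohen.isRegularLocalRing_mvPowerSeries Λ N
  haveI := RegLoc.isDomain P
  haveI : IsAdicComplete (maximalIdeal P) P := ArtFunLib.isAdicComplete_mvPowerSeries
  letI : Algebra P A := φ.toAlgebra
  haveI : Module.Finite P A := RingHom.finite_algebraMap.1 hfin
  letI : Algebra P k := ((algebraMap A k).comp φ).toAlgebra
  haveI : IsScalarTower P A k := .of_algebraMap_eq fun _ => rfl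
  letI : Algebra P L := ((algebraMap A L).comp φ).toAlgebra
  haveI : IsScalarTower P A L := .of_algebraMap_eq fun _ => rfl
  haveI : IsScalarTower P k L := .of_algebraMap_eq fun x => IsScalarTower.algebraMap_apply A k L (φ x)
  let K := FractionRing P
  haveI : FaithfulSMul P A := (faithfulSMul_iff_algebraMap_injective _ _).mpr hinj
  haveI : FaithfulSMul P k := (faithfulSMul_iff_algebraMap_injective _ _).mpr
    ((IsFractionRing.injective A k).comp hinj)
  haveI : FaithfulSMul P L := (faithfulSMul_iff_algebraMap_injective _ _).mpr (by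
    rw [IsScalarTower.algebraMap_eq P k L]; exact (algebraMap k L).injective.comp (FaithfulSMul.algebraMap_injective P k))
  letI := FractionRing.liftAlgebra P k
  letI := FractionRing.liftAlgebra P L
  haveI : FiniteDimensional K k := Module.Finite.of_isLocalization P A (nonZeroDivisors P)
  haveI : IsScalarTower K k L := .of_algebraMap_eq' (IsLocalization.ringHom_ext (nonZeroDivisors P) (by
    rw [RingHom.comp_assoc, ← IsScalarTower.algebraMap_eq P K k, ← IsScalarTower.algebraMap_eq P K L,
      ← IsScalarTower.algebraMap_eq P k L]))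
  haveI : FiniteDimensional K L := Module.Finite.trans k L
  haveI : Algebra.EssFiniteType A k := Algebra.EssFiniteType.of_isLocalization k (nonZeroDivisors A)
  haveI : Algebra.EssFiniteType A L := Algebra.EssFiniteType.comp A k L
  haveI : Algebra.EssFiniteType (Localization.AtPrime m) L := Algebra.EssFiniteType.of_comp A _ _
  exact regular_completion_fibre P A m L (regular_formal_generic P (m.under P) K L)

/-- A complete Noetherian local ring is a G-ring. -/
theorem isGRing_of_complete (R : Type u) [CommRing R] [IsLocalRing R] [IsNoetherianRing R]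
    [IsAdicComplete (maximalIdeal R) R] : CAlg.IsGRing R := by
  refine ⟨inferInstance, fun m _ => ?_⟩
  let R' := Localization.AtPrime m
  refine ⟨AdicCompletion.flat_of_isNoetherian _, fun p _ => ?_⟩
  refine ⟨isNoetherianRing_tensor_essFiniteType R' (EGA4.Cpl R') p.ResidueField, fun k' _ _ hfink => ?_⟩
  haveI := hfink
  let q := p.comap (algebraMap R R')
  have hqm : q ≤ m := fun x hx => (IsLocalization.AtPrime.to_map_mem_maximal_iff R' m x).1
    (IsLocalRing.le_maximalIdeal (Ideal.IsPrime.ne_top ‹_›) hx)
  let A := R ⧸ q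
  obtain ⟨_, hA⟩ := completeLocal_of_finite R A
  haveI := hA
  let mb : Ideal A := m.map (Ideal.Quotient.mk q)
  haveI : mb.IsPrime := Ideal.map_isPrime_of_surjective Ideal.Quotient.mk_surjective (by rwa [Ideal.mk_ker])
  have hcomap : m = mb.comap (Ideal.Quotient.mk q) := by
    rw [Ideal.comap_map_of_surjective _ Ideal.Quotient.mk_surjective, ← RingHom.ker_eq_comap_bot, Ideal.mk_ker,
      sup_eq_left.2 hqm]
  let A' := Localization.AtPrime mb
  let π : R' →+* A' := Localization.localRingHom m mb (Ideal.Quotient.mk q) hcomap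
  letI : Algebra R' A' := π.toAlgebra
  have hπ : Function.Surjective π := fun x => by
    obtain ⟨a, s, rfl⟩ := IsLocalization.exists_mk'_eq mb.primeCompl x
    obtain ⟨r, rfl⟩ := Ideal.Quotient.mk_surjective a
    obtain ⟨t, ht⟩ := Ideal.Quotient.mk_surjective (s : A)
    refine ⟨IsLocalization.mk' R' r (⟨t, fun h => s.2 (ht ▸ Ideal.mem_map_of_mem _ h)⟩ : m.primeCompl), ?_⟩
    rw [Localization.localRingHom_mk']
    congr 1
    exact Subtype.ext ht
  -- the residue field
  let k := p.ResidueField
  let g : A →+* k := Ideal.Quotient.lift q (algebraMap R k) fun a ha => by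
    rw [IsScalarTower.algebraMap_apply R R' k]; exact Ideal.algebraMap_residueField_eq_zero.2 ha
  have hg : ∀ a, g a = 0 → a = 0 := fun a ha => by
    obtain ⟨r, rfl⟩ := Ideal.Quotient.mk_surjective a
    rw [Ideal.Quotient.lift_mk, IsScalarTower.algebraMap_apply R R' k, Ideal.algebraMap_residueField_eq_zero] at ha
    exact Ideal.Quotient.eq_zero_iff_mem.2 ha
  letI : Algebra A k := g.toAlgebra
  haveI : FaithfulSMul A k := (faithfulSMul_iff_algebraMap_injective _ _).2 ((injective_iff_map_eq_zero g).2 hg)
  have hR' : ∀ x : R', ∃ a s : A, g s ≠ 0 ∧ algebraMap R' k x = g a / g s := fun x => by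
    obtain ⟨r, s, rfl⟩ := IsLocalization.exists_mk'_eq m.primeCompl x
    have hs : algebraMap R k (s : R) ≠ 0 := fun h => s.2 (hqm (by
      rw [IsScalarTower.algebraMap_apply R R' k, Ideal.algebraMap_residueField_eq_zero] at h; exact h))
    refine ⟨Ideal.Quotient.mk q r, Ideal.Quotient.mk q (s : R), hs, ?_⟩
    show algebraMap R' k _ = algebraMap R k r / algebraMap R k (s : R)
    rw [eq_div_iff hs]
    rw [IsScalarTower.algebraMap_apply R R' k, ← map_mul, IsLocalization.mk'_spec, ← IsScalarTower.algebraMap_apply]
  haveI : IsFractionRing A k := IsFractionRing.of_field A k fun z => by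
    obtain ⟨x, y, hy, rfl⟩ := IsFractionRing.div_surjective (R' ⧸ p) z
    obtain ⟨x, rfl⟩ := Ideal.Quotient.mk_surjective x
    obtain ⟨y, rfl⟩ := Ideal.Quotient.mk_surjective y
    obtain ⟨a, s, hs, hx⟩ := hR' x
    obtain ⟨b, t, ht, hy'⟩ := hR' y
    refine ⟨a * t, s * b, ?_⟩
    show algebraMap R' k x / algebraMap R' k y = g (a * t) / g (s * b)
    rw [hx, hy', map_mul, map_mul, div_div_div_eq]
  letI : Algebra A k' := ((algebraMap k k').comp g).toAlgebra
  haveI : IsScalarTower A k k' := .of_algebraMap_eq fun _ => rfl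
  letI : Algebra R' k' := ((algebraMap k k').comp (algebraMap R' k)).toAlgebra
  haveI : IsScalarTower R' k k' := .of_algebraMap_eq fun _ => rfl
  have hunit : ∀ s : mb.primeCompl, IsUnit (algebraMap A k' (s : A)) := fun s => by
    refine isUnit_iff_ne_zero.2 fun h => s.2 ?_
    rw [hg _ ((map_eq_zero (algebraMap k k')).1 h)]
    exact mb.zero_mem
  letI : Algebra A' k' := (IsLocalization.lift hunit).toAlgebra
  haveI : IsScalarTower A A' k' := .of_algebraMap_eq fun x => (IsLocalization.lift_eq hunit x).symm
  haveI : IsScalarTower R' A' k' := .of_algebraMap_eq' (IsLocalization.ringHom_ext m.primeCompl (RingHom.ext fun x => by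
    show algebraMap k k' (algebraMap R' k (algebraMap R R' x)) = IsLocalization.lift hunit (π (algebraMap R R' x))
    rw [Localization.localRingHom_to_map, IsLocalization.lift_eq, ← IsScalarTower.algebraMap_apply R R' k]
    rfl))
  haveI : IsLocalHom (algebraMap R' A') := Localization.isLocalHom_localRingHom m mb (Ideal.Quotient.mk q) hcomap
  exact @IsRegularRing.of_ringEquiv _ _ _ _
    (((Algebra.TensorProduct.congr (AlgEquiv.refl : k' ≃ₐ[A'] k') (FlatDepth.cplSurjEquiv R' A' hπ).symm).toRingEquiv.trans
      (Algebra.TensorProduct.cancelBaseChange R' A' A' k' (EGA4.Cpl R')).toRingEquiv).trans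
      (Algebra.TensorProduct.cancelBaseChange R' k k k' (EGA4.Cpl R')).symm.toRingEquiv)
    (regular_completion_fibre_domain A mb k k')

end Groth.Agent.CplDomain
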