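import Groth.Agent.Lib.CplDomain.Normalization
import Groth.Agent.Lib.Cohen.PBase
import Mathlib

/-! # Derivations of complete local domains in characteristic `p` -/

set_option autoImplicit false
universe u

open IsLocalRing MvPowerSeries

namespace Groth.Agent.CplDomain

open PBasis

theorem derivation_pow_char {S R : Type*} [CommRing S] [CommRing R] [Algebra S R] (p : ℕ) [CharP R p]
    (D : Derivation S R R) (a : R) :
    D (a ^ p) = 0 := by
  rw [Derivation.leibniz_pow, ← Nat.cast_smul_eq_nsmul R, CharP.cast_eq_zero, zero_smul]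

/-- Derivations of a field of characteristic `p` with cofinite finite kernels and the `p`-th powers as common kernel. -/
theorem exists_field_derivations (k : Type u) [Field k] (p : ℕ) [Fact p.Prime] [CharP k p] :
    ∃ (ι : Type u) (δ : ι → Derivation ℤ k k),
      (∀ x : k, (∀ i, δ i x = 0) → ∃ y, y ^ p = x) ∧
      ∀ T : Finset ι, ∃ (m : ℕ) (e : Fin m → k), ∀ x : k, ∃ c : Fin m → k,
        (∀ j, ∀ i ∈ T, δ i (c j) = 0) ∧ ∑ j, c j * e j = x := by
  classical
  obtain ⟨B, hgen, hind⟩ := Cohen.exists_pBase (K := k) p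
  set L : Subfield k := (frobenius k p).fieldRange
  have hL : ∀ x : k, x ^ p ∈ L := fun x => ⟨x, rfl⟩
  have hsep := (linearIndependent_pMonomial_iff p L hL _).mp hind
  choose d hd0 hd1 using fun b : B => exists_derivation_adjS p L hL (hsep b)
  have hne : ∀ a b : B, a ≠ b → d a (b : k) = 0 := fun a b h => hd0 a _ ⟨b, Ne.symm h, rfl⟩
  refine ⟨B, fun b => (d b).restrictScalars ℤ, fun x hx => ?_, fun T => ?_⟩
  · by_contra hcon
    have hxL : x ∉ L := fun ⟨y, hy⟩ => hcon ⟨y, hy⟩
    obtain ⟨D, hD⟩ := KaehlerSubfield.exists_derivation p L hL hxL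
    have hspan : Submodule.span k (Set.range fun b : B => KaehlerDifferential.D L k (b : k)) = ⊤ := by
      rw [show (Set.range fun b : B => KaehlerDifferential.D L k (b : k)) = KaehlerDifferential.D L k '' B by
        rw [Set.image_eq_range], span_D_eq_top_iff p L hL]
      exact eq_top_iff.mpr fun z _ => (adjS_eq_adjoin p L hL B z).mpr (hgen z)
    obtain ⟨c, hc⟩ := Finsupp.mem_span_range_iff_exists_finsupp.mp
      (hspan ▸ Submodule.mem_top : KaehlerDifferential.D L k x ∈ _)
    have hc0 : ∀ a, c a = 0 := fun a => by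
      have h := congrArg (d a).liftKaehlerDifferential hc
      rw [map_finsuppSum, Derivation.liftKaehlerDifferential_comp_D, show d a x = 0 from hx a,
        Finsupp.sum_eq_single a] at h
      · simpa [map_smul, hd1] using h
      · intro b _ hb
        rw [map_smul, Derivation.liftKaehlerDifferential_comp_D, hne a b (Ne.symm hb), smul_zero]
      · simp
    have h := congrArg D.liftKaehlerDifferential hc
    rw [Derivation.liftKaehlerDifferential_comp_D, hD, show c = 0 from Finsupp.ext hc0] at h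
    simp at h
  · let kT : Subfield k := adjS L (Subtype.val '' {b : B | b ∉ T})
    have hkill : ∀ c ∈ kT, ∀ i ∈ T, d i c = 0 := fun c hc i hi =>
      D_eq_zero_of_mem_closure (d i) (by
        rintro _ ⟨b, hb, rfl⟩
        exact hne i b fun e => hb (e ▸ hi)) hc
    have htop : Algebra.adjoin kT ((T.image Subtype.val : Finset k) : Set k) = ⊤ := by
      refine eq_top_iff.mpr fun x _ => ?_
      induction hgen x using Algebra.adjoin_induction with
      | mem z hz =>
        by_cases h : (⟨z, hz⟩ : B) ∈ T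
        · exact Algebra.subset_adjoin (Finset.mem_coe.mpr (Finset.mem_image.mpr ⟨_, h, rfl⟩))
        · exact Subalgebra.algebraMap_mem _ (⟨z, subset_adjS L _ ⟨⟨z, hz⟩, h, rfl⟩⟩ : kT)
      | algebraMap r => exact Subalgebra.algebraMap_mem _ (⟨r, le_adjS L _ r.2⟩ : kT)
      | add y z _ _ hy hz => exact add_mem (hy trivial) (hz trivial)
      | mul y z _ _ hy hz => exact mul_mem (hy trivial) (hz trivial)
    haveI : Module.Finite kT k := ⟨by
      rw [← Algebra.top_toSubmodule, ← htop]
      exact fg_adjoin_of_finite (Finset.finite_toSet _) fun x _ =>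
        KaehlerSubfield.isIntegral p kT (fun y => le_adjS L _ (hL y)) x⟩
    obtain ⟨m, s, hs⟩ := Module.Finite.exists_fin (R := kT) (M := k)
    refine ⟨m, s, fun x => ?_⟩
    obtain ⟨c, hc⟩ := (Submodule.mem_span_range_iff_exists_fun kT).mp (hs ▸ Submodule.mem_top : x ∈ _)
    exact ⟨fun j => (c j : k), fun j i hi => hkill _ (c j).2 i hi, hc⟩

variable {k : Type u} [Field k] {n : ℕ}

/-- A derivation applied to the coefficients of a power series. -/
noncomputable def coeffDer (δ : Derivation ℤ k k) :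
    Derivation ℤ (MvPowerSeries (Fin n) k) (MvPowerSeries (Fin n) k) :=
  Derivation.mk'
    (AddMonoidHom.toIntLinearMap
      (AddMonoidHom.mk' (fun f => ((fun m => δ (coeff m f)) : MvPowerSeries (Fin n) k)) fun f g => by
        refine MvPowerSeries.ext fun m => ?_
        show δ (coeff m (f + g)) = δ (coeff m f) + δ (coeff m g)
        rw [map_add, map_add]))
    fun f g => by
      classical
      refine MvPowerSeries.ext fun m => ?_
      rw [map_add, smul_eq_mul, smul_eq_mul, mul_comm g, MvPowerSeries.coeff_mul, MvPowerSeries.coeff_mul]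
      show δ (coeff m (f * g)) = _
      rw [MvPowerSeries.coeff_mul, map_sum, ← Finset.sum_add_distrib]
      refine Finset.sum_congr rfl fun x _ => ?_
      rw [Derivation.leibniz, smul_eq_mul, smul_eq_mul, mul_comm (coeff x.2 g)]
      rfl

theorem coeff_coeffDer (δ : Derivation ℤ k k) (f : MvPowerSeries (Fin n) k) (m : Fin n →₀ ℕ) :
    coeff m (coeffDer δ f) = δ (coeff m f) := rfl

variable {ι : Type u} (δ : ι → Derivation ℤ k k)

/-- The power series killed by the partial derivatives and by some coefficient derivations. -/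
def killed (T : Finset ι) : Subring (MvPowerSeries (Fin n) k) where
  carrier := {f | (∀ j, MvPowerSeries.pderiv k j f = 0) ∧ ∀ i ∈ T, coeffDer (δ i) f = 0}
  mul_mem' := fun {a b} ha hb => ⟨fun j => by rw [Derivation.leibniz, ha.1 j, hb.1 j, smul_zero, smul_zero, add_zero],
    fun i hi => by rw [Derivation.leibniz, ha.2 i hi, hb.2 i hi, smul_zero, smul_zero, add_zero]⟩
  one_mem' := ⟨fun j => Derivation.map_one_eq_zero _, fun i _ => Derivation.map_one_eq_zero _⟩
  add_mem' := fun {a b} ha hb => ⟨fun j => by rw [map_add, ha.1 j, hb.1 j, add_zero],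
    fun i hi => by rw [map_add, ha.2 i hi, hb.2 i hi, add_zero]⟩
  zero_mem' := ⟨fun _ => map_zero _, fun _ _ => map_zero _⟩
  neg_mem' := fun {a} ha => ⟨fun j => by rw [map_neg, ha.1 j, neg_zero],
    fun i hi => by rw [map_neg, ha.2 i hi, neg_zero]⟩

variable (p : ℕ) [Fact p.Prime] [CharP k p]

theorem pderiv_eq_zero_of_dvd {f : MvPowerSeries (Fin n) k}
    (hf : ∀ (m : Fin n →₀ ℕ) (i : Fin n), ¬ p ∣ m i → coeff m f = 0) (j : Fin n) :
    MvPowerSeries.pderiv k j f = 0 := by
  refine MvPowerSeries.ext fun m => ?_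
  rw [MvPowerSeries.coeff_pderiv, map_zero]
  by_cases h : p ∣ m j + 1
  · rw [← Nat.cast_add_one, (CharP.cast_eq_zero_iff k p _).mpr h, mul_zero]
  · rw [hf _ j (by simpa using h), zero_mul]

theorem coeff_eq_zero_of_pderiv {f : MvPowerSeries (Fin n) k} (hf : ∀ j, MvPowerSeries.pderiv k j f = 0)
    (m : Fin n →₀ ℕ) (i : Fin n) (h : ¬ p ∣ m i) : coeff m f = 0 := by
  classical
  have hpos : 1 ≤ m i := Nat.one_le_iff_ne_zero.mpr fun e => h (e ▸ dvd_zero p)
  let m' := m - Finsupp.single i 1
  have hm : m = m' + Finsupp.single i 1 := Finsupp.ext fun l => by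
    by_cases e : l = i
    · subst e; simp [m']; omega
    · simp [m', Finsupp.single_eq_of_ne e]
  have h1 := congrArg (coeff m') (hf i)
  rw [MvPowerSeries.coeff_pderiv, map_zero, ← hm, ← Nat.cast_add_one] at h1
  rcases mul_eq_zero.mp h1 with h2 | h2
  · exact h2
  · exfalso
    rw [CharP.cast_eq_zero_iff k p] at h2
    exact h (by rw [hm]; simpa using h2)

/-- The common kernel consists of `p`-th powers. -/
theorem exists_root_of_killed (hδ : ∀ x : k, (∀ i, δ i x = 0) → ∃ y, y ^ p = x)
    {f : MvPowerSeries (Fin n) k} (hf : ∀ T, f ∈ killed δ T) : ∃ g, g ^ p = f := by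
  classical
  haveI : ExpChar k p := ExpChar.prime Fact.out
  have hp0 : p ≠ 0 := (Fact.out : p.Prime).ne_zero
  choose r hr using fun m : Fin n →₀ ℕ => hδ (coeff (p • m) f) fun i => by
    rw [← coeff_coeffDer, (hf {i}).2 i (Finset.mem_singleton_self i), map_zero]
  let g : MvPowerSeries (Fin n) k := fun m => r m
  refine ⟨g, ?_⟩
  rw [← MvPowerSeries.map_frobenius_expand p hp0]
  refine MvPowerSeries.ext fun m => ?_
  rw [MvPowerSeries.coeff_map]
  by_cases h : ∀ i, p ∣ m i
  · choose q hq using h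
    obtain rfl : m = p • Finsupp.equivFunOnFinite.symm q := Finsupp.ext fun i => by simp [hq i]
    rw [MvPowerSeries.coeff_expand_smul]
    exact hr _
  · push Not at h
    obtain ⟨i, hi⟩ := h
    rw [MvPowerSeries.coeff_expand_of_not_dvd p hp0 _ hi, map_zero,
      coeff_eq_zero_of_pderiv p (hf ∅).1 m i hi]

include p in
/-- Power series are finite over the killed subring. -/
theorem exists_killed_generators
    (hfin : ∀ T : Finset ι, ∃ (m : ℕ) (e : Fin m → k), ∀ x : k, ∃ c : Fin m → k,
      (∀ j, ∀ i ∈ T, δ i (c j) = 0) ∧ ∑ j, c j * e j = x) (T : Finset ι) :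
    ∃ (M : ℕ) (E : Fin M → MvPowerSeries (Fin n) k), ∀ f, ∃ c : Fin M → MvPowerSeries (Fin n) k,
      (∀ j, c j ∈ killed δ T) ∧ ∑ j, c j * E j = f := by
  classical
  obtain ⟨m, e, he⟩ := hfin T
  choose c hc hcs using he
  have hp0 : 0 < p := (Fact.out : p.Prime).pos
  let J := Fin n → Fin p
  let toF : J → (Fin n →₀ ℕ) := fun J => Finsupp.equivFunOnFinite.symm fun i => (J i : ℕ)
  let σ := (Fintype.equivFin (J × Fin m))
  suffices h : ∀ f, ∃ g : J × Fin m → MvPowerSeries (Fin n) k,
      (∀ x, g x ∈ killed δ T) ∧ ∑ x, g x * monomial (toF x.1) (e x.2) = f by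
    refine ⟨Fintype.card (J × Fin m), fun l => monomial (toF (σ.symm l).1) (e (σ.symm l).2), fun f => ?_⟩
    obtain ⟨g, hg, hsum⟩ := h f
    refine ⟨fun l => g (σ.symm l), fun l => hg _, ?_⟩
    rw [← hsum]
    exact σ.symm.sum_comp (fun x => g x * monomial (toF x.1) (e x.2))
  intro f
  let g : J × Fin m → MvPowerSeries (Fin n) k := fun x I =>
    if ∀ i, p ∣ I i then c (coeff (I + toF x.1) f) x.2 else 0
  have hgc : ∀ x I, coeff I (g x) = if ∀ i, p ∣ I i then c (coeff (I + toF x.1) f) x.2 else 0 := fun x I => rfl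
  refine ⟨g, fun x => ⟨pderiv_eq_zero_of_dvd p fun I i hi => ?_, fun i hi => ?_⟩, ?_⟩
  · rw [hgc, if_neg fun h => hi (h i)]
  · refine MvPowerSeries.ext fun I => ?_
    rw [coeff_coeffDer, map_zero, hgc]
    split_ifs
    · exact hc _ _ i hi
    · exact map_zero _
  refine MvPowerSeries.ext fun I => ?_
  rw [map_sum]
  let J0 : J := fun i => ⟨I i % p, Nat.mod_lt _ hp0⟩
  have hJ0 : toF J0 ≤ I := fun i => by simp [toF, J0, Nat.mod_le]
  rw [Fintype.sum_prod_type, Finset.sum_eq_single J0]
  · have hdvd : ∀ i, p ∣ (I - toF J0) i := fun i => by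
      simp only [Finsupp.coe_tsub, Pi.sub_apply, toF, J0, Finsupp.coe_equivFunOnFinite_symm]
      exact Nat.dvd_sub_mod _
    rw [← hcs (coeff I f)]
    refine Finset.sum_congr rfl fun j _ => ?_
    rw [MvPowerSeries.coeff_mul_monomial, if_pos hJ0, hgc, if_pos hdvd, tsub_add_cancel_of_le hJ0]
  · intro J' _ hne
    refine Finset.sum_eq_zero fun j _ => ?_
    rw [MvPowerSeries.coeff_mul_monomial]
    split_ifs with hle
    · rw [hgc, if_neg, zero_mul]
      intro hd
      refine hne (funext fun i => Fin.ext ?_)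
      obtain ⟨q, hq⟩ := hd i
      have h2 : toF J' i ≤ I i := hle i
      simp only [Finsupp.coe_tsub, Pi.sub_apply, toF, Finsupp.coe_equivFunOnFinite_symm] at hq h2
      show (J' i : ℕ) = I i % p
      rw [show I i = J' i + p * q by omega, Nat.add_mul_mod_self_left, Nat.mod_eq_of_lt (J' i).2]
    · rfl
  · simp

/-- The subfield generated by killed series. -/
noncomputable def fieldKilled {L : Type u} [Field L] {k : Type u} [Field k] {n : ℕ} {ι : Type u}
    (δ : ι → Derivation ℤ k k) (ψ : MvPowerSeries (Fin n) k →+* L) (T : Finset ι) : Subfield L :=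
  Subfield.closure ((killed (n := n) δ T).map ψ : Set L)

theorem finite_fieldKilled (A : Type u) [CommRing A] [IsDomain A] (L : Type u) [Field L] [Algebra A L]
    [IsFractionRing A L] (p : ℕ) [Fact p.Prime] {Λ : Type u} [Field Λ] [CharP Λ p] {n : ℕ}
    (φ : MvPowerSeries (Fin n) Λ →+* A) (hφfin : φ.Finite) {ι : Type u} (δ : ι → Derivation ℤ Λ Λ)
    (hfin : ∀ T : Finset ι, ∃ (m : ℕ) (e : Fin m → Λ), ∀ x : Λ, ∃ c : Fin m → Λ,
      (∀ j, ∀ i ∈ T, δ i (c j) = 0) ∧ ∑ j, c j * e j = x) (T : Finset ι) :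
    Module.Finite (fieldKilled δ ((algebraMap A L).comp φ) T) L := by
  classical
  let ψ : MvPowerSeries (Fin n) Λ →+* L := (algebraMap A L).comp φ
  let F : Finset ι → Subfield L := fun T => fieldKilled δ ψ T
  obtain ⟨M, E, hE⟩ := exists_killed_generators (n := n) δ p hfin T
  letI := φ.toAlgebra
  haveI : Module.Finite (MvPowerSeries (Fin n) Λ) A := hφfin
  obtain ⟨M', α, hα⟩ := Module.Finite.exists_fin (R := MvPowerSeries (Fin n) Λ) (M := A)
  let V : Submodule (F T) L := Submodule.span (F T) (Set.range fun x : Fin M × Fin M' => ψ (E x.1) * algebraMap A L (α x.2))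
  haveI : Module.Finite (F T) V := Module.Finite.span_of_finite _ (Set.finite_range _)
  have hA : ∀ a : A, algebraMap A L a ∈ V := by
    intro a
    obtain ⟨c, rfl⟩ := (Submodule.mem_span_range_iff_exists_fun _).mp (hα ▸ Submodule.mem_top : a ∈ _)
    rw [map_sum]
    refine sum_mem fun l _ => ?_
    obtain ⟨d, hd, hds⟩ := hE (c l)
    rw [Algebra.smul_def, map_mul, show algebraMap A L (algebraMap _ A (c l)) = ψ (c l) from rfl, ← hds, map_sum,
      Finset.sum_mul]
    refine sum_mem fun j _ => ?_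
    rw [map_mul, mul_assoc]
    exact V.smul_mem (⟨ψ (d j), Subfield.subset_closure ⟨_, hd j, rfl⟩⟩ : F T)
      (Submodule.subset_span ⟨(j, l), rfl⟩)
  let S := Algebra.adjoin (F T) (Set.range (algebraMap A L))
  have hSV : Subalgebra.toSubmodule S ≤ V := by
    rw [Algebra.adjoin_eq_span, Submodule.span_le]
    intro x hx
    obtain ⟨a, rfl⟩ : x ∈ (algebraMap A L).range := by
      induction hx using Submonoid.closure_induction with
      | mem y hy => exact hy
      | one => exact one_mem _
      | mul y z _ _ hy hz => exact mul_mem hy hz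
    exact hA a
  haveI : Module.Finite (F T) S := Submodule.finiteDimensional_of_le hSV
  have hS : IsField S := isField_of_isIntegral_of_isField' (Field.toIsField (F T))
  have htop : S = ⊤ := eq_top_iff.mpr fun z _ => by
    obtain ⟨a, b, hb, rfl⟩ := IsFractionRing.div_surjective A z
    have hbS : algebraMap A L b ∈ S := Algebra.subset_adjoin ⟨b, rfl⟩
    have hb0 : algebraMap A L b ≠ 0 := IsFractionRing.to_map_ne_zero_of_mem_nonZeroDivisors hb
    obtain ⟨⟨w, hw⟩, hw'⟩ := hS.mul_inv_cancel (a := (⟨_, hbS⟩ : S)) fun e => hb0 (congrArg Subtype.val e)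
    rw [div_eq_mul_inv, inv_eq_of_mul_eq_one_right (congrArg Subtype.val hw')]
    exact mul_mem (Algebra.subset_adjoin ⟨a, rfl⟩) hw
  exact Module.Finite.of_surjective S.val.toLinearMap fun z => ⟨⟨z, htop ▸ trivial⟩, rfl⟩

theorem exists_scaled_derivation (A : Type u) [CommRing A] [IsDomain A] (L : Type u) [Field L] [Algebra A L]
    [IsFractionRing A L] (p : ℕ) [Fact p.Prime] {Λ : Type u} [Field Λ] [CharP Λ p] {n : ℕ}
    (φ : MvPowerSeries (Fin n) Λ →+* A) (hφfin : φ.Finite) {ι : Type u} (δ : ι → Derivation ℤ Λ Λ)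
    (hfin : ∀ T : Finset ι, ∃ (m : ℕ) (e : Fin m → Λ), ∀ x : Λ, ∃ c : Fin m → Λ,
      (∀ j, ∀ i ∈ T, δ i (c j) = 0) ∧ ∑ j, c j * e j = x) (T : Finset ι)
    {E : Subfield L} (d : Derivation E L L)
    (hdk : ∀ c ∈ killed (n := n) δ T, d (algebraMap A L (φ c)) = 0) (f : A) (hd : d (algebraMap A L f) = 1) :
    ∃ D : Derivation ℤ A A, D f ≠ 0 := by
  classical
  let ψ : MvPowerSeries (Fin n) Λ →+* L := (algebraMap A L).comp φ
  obtain ⟨M, Eg, hEg⟩ := exists_killed_generators (n := n) δ p hfin T
  letI := φ.toAlgebra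
  haveI : Module.Finite (MvPowerSeries (Fin n) Λ) A := hφfin
  obtain ⟨M', α, hα⟩ := Module.Finite.exists_fin (R := MvPowerSeries (Fin n) Λ) (M := A)
  obtain ⟨s, hs⟩ := IsLocalization.exist_integer_multiples_of_finite (nonZeroDivisors A)
    fun x : Fin M × Fin M' => d (ψ (Eg x.1) * algebraMap A L (α x.2))
  have hrange : ∀ a : A, ∃ b : A, algebraMap A L b = algebraMap A L s * d (algebraMap A L a) := by
    intro a
    show algebraMap A L s * d (algebraMap A L a) ∈ (algebraMap A L).range
    obtain ⟨c, rfl⟩ := (Submodule.mem_span_range_iff_exists_fun _).mp (hα ▸ Submodule.mem_top : a ∈ _)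
    rw [map_sum, map_sum, Finset.mul_sum]
    refine sum_mem fun l _ => ?_
    obtain ⟨g, hg, hgs⟩ := hEg (c l)
    rw [Algebra.smul_def, map_mul, show algebraMap A L (algebraMap _ A (c l)) = ψ (c l) from rfl, ← hgs, map_sum,
      Finset.sum_mul, map_sum, Finset.mul_sum]
    refine sum_mem fun j _ => ?_
    rw [map_mul ψ, mul_assoc, Derivation.leibniz, show d (ψ (g j)) = 0 from hdk _ (hg j), smul_zero, add_zero, smul_eq_mul, mul_left_comm]
    refine mul_mem ⟨φ (g j), rfl⟩ ?_
    obtain ⟨b, hb⟩ := hs (j, l)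
    exact ⟨b, hb.trans (Algebra.smul_def _ _)⟩
  choose b hb using hrange
  have hinj := IsFractionRing.injective A L
  refine ⟨Derivation.mk' (AddMonoidHom.toIntLinearMap (AddMonoidHom.mk' b fun x y => hinj ?_)) fun x y => hinj ?_, ?_⟩
  · rw [map_add, hb, hb, hb, map_add, map_add, mul_add]
  · show algebraMap A L (b (x * y)) = algebraMap A L (x • b y + y • b x)
    rw [hb, map_mul, Derivation.leibniz, smul_eq_mul, smul_eq_mul, smul_eq_mul, smul_eq_mul, map_add, map_mul,
      map_mul, hb, hb]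
    ring
  · show b f ≠ 0
    intro h
    have := hb f
    rw [h, map_zero, hd, mul_one] at this
    exact IsFractionRing.to_map_ne_zero_of_mem_nonZeroDivisors s.2 this.symm

theorem exists_root_of_mem_all {L : Type u} [Field L] (p : ℕ) [Fact p.Prime] [CharP L p] {ι : Type u} [DecidableEq ι]
    (F : Finset ι → Subfield L) (hmono : ∀ {T T' : Finset ι}, T ⊆ T' → F T' ≤ F T)
    (hroot : ∀ z, (∀ T, z ∈ F T) → ∃ w : L, w ^ p = z) {N : ℕ} (e' : Fin N → L) (x : L)
    (hcase : ∀ T, x ∈ Submodule.span (F T) (Set.range fun l => e' l ^ p)) : ∃ w : L, w ^ p = x := by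
  classical
  let V : ∀ T, Submodule (F T) L := fun T => Submodule.span (F T) (Set.range fun l => e' l ^ p)
  -- a maximal eventually independent family
  let ok : Finset (Fin N) → Prop := fun s => ∃ T, LinearIndepOn (F T) (fun l => e' l ^ p) (s : Set (Fin N))
  obtain ⟨s, hs, hmax⟩ := Set.Finite.exists_maximal (Set.toFinite {s | ok s})
    ⟨∅, ∅, by simp [linearIndepOn_empty]⟩
  obtain ⟨T₀, hT₀⟩ := hs
  have hind : ∀ T, T₀ ⊆ T → LinearIndepOn (F T) (fun l => e' l ^ p) (s : Set (Fin N)) := fun T hT => by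
    rw [linearIndepOn_finset_iff]
    intro g hg i hi
    have := (linearIndepOn_finset_iff.mp hT₀) (fun l => (⟨g l, hmono hT (g l).2⟩ : F T₀)) hg i hi
    exact Subtype.ext (congrArg Subtype.val this :)
  have hspan : ∀ T, T₀ ⊆ T → ∃ c : Fin N → F T, ∑ l ∈ s, (c l : L) * e' l ^ p = x := by
    intro T hT
    have hsub : V T ≤ Submodule.span (F T) ((fun l => e' l ^ p) '' (s : Set (Fin N))) := by
      refine Submodule.span_le.mpr ?_
      rintro _ ⟨l, rfl⟩
      by_cases hl : l ∈ s
      · exact Submodule.subset_span ⟨l, hl, rfl⟩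
      by_contra hnot
      have hins : ok (insert l s) := ⟨T, by
        rw [Finset.coe_insert, linearIndepOn_insert (by simpa using hl)]
        exact ⟨hind T hT, hnot⟩⟩
      exact hl (hmax hins (Finset.subset_insert l s) (Finset.mem_insert_self l s))
    obtain ⟨c, hc⟩ := (Submodule.mem_span_image_finset_iff_exists_fun' (R := F T)).mp (hsub (hcase T))
    exact ⟨c, hc⟩
  obtain ⟨c₀, hc₀⟩ := hspan T₀ le_rfl
  have hall : ∀ l ∈ s, ∀ T, (c₀ l : L) ∈ F T := by
    intro l hl T
    obtain ⟨c, hc⟩ := hspan (T ∪ T₀) Finset.subset_union_right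
    have h := (linearIndepOn_finset_iff.mp hT₀)
      (fun l => c₀ l - (⟨c l, hmono Finset.subset_union_right (c l).2⟩ : F T₀)) (by
        simp only [sub_smul, Finset.sum_sub_distrib, sub_eq_zero]
        exact hc₀.trans hc.symm) l hl
    rw [sub_eq_zero] at h
    rw [congrArg Subtype.val h]
    exact hmono Finset.subset_union_left (c l).2
  choose w hw using fun l : s => hroot _ (hall l.1 l.2)
  refine ⟨∑ l : s, w l * e' l.1, ?_⟩
  rw [sum_pow_char, ← hc₀, ← Finset.sum_coe_sort s]
  exact Finset.sum_congr rfl fun l _ => by rw [mul_pow, hw]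

/-- Derivations of domains finite over power series rings over fields. -/
theorem exists_derivation_of_finite (A : Type u) [CommRing A] [IsDomain A] (L : Type u) [Field L] [Algebra A L]
    [IsFractionRing A L] (p : ℕ) [Fact p.Prime] [CharP A p] (f : A) (hf : ∀ z : L, z ^ p ≠ algebraMap A L f)
    (Λ : Type u) [Field Λ] (n : ℕ) (φ : MvPowerSeries (Fin n) Λ →+* A) (hφinj : Function.Injective φ)
    (hφfin : φ.Finite) : ∃ D : Derivation ℤ A A, D f ≠ 0 := by
  classical
  haveI : CharP (MvPowerSeries (Fin n) Λ) p := (RingHom.charP_iff φ hφinj p).mpr inferInstance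
  haveI : CharP Λ p := (RingHom.charP_iff (MvPowerSeries.C : Λ →+* MvPowerSeries (Fin n) Λ)
    MvPowerSeries.C_injective p).mpr inferInstance
  obtain ⟨ι, δ, hδ, hfin⟩ := exists_field_derivations Λ p
  let ψ : MvPowerSeries (Fin n) Λ →+* L := (algebraMap A L).comp φ
  have hψ : Function.Injective ψ := (IsFractionRing.injective A L).comp hφinj
  haveI : CharP L p := (RingHom.charP_iff (algebraMap A L) (IsFractionRing.injective A L) p).mp inferInstance
  have hpowk : ∀ (T : Finset ι) (a : MvPowerSeries (Fin n) Λ), a ^ p ∈ killed δ T := fun T a =>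
    ⟨fun j => derivation_pow_char p (MvPowerSeries.pderiv Λ j) a,
      fun i _ => derivation_pow_char p (coeffDer (δ i)) a⟩
  let F : Finset ι → Subfield L := fun T => fieldKilled δ ψ T
  have hFmem : ∀ T, ∀ z ∈ F T, ∃ a b : MvPowerSeries (Fin n) Λ, a ∈ killed δ T ∧ b ∈ killed δ T ∧ z = ψ a / ψ b := by
    intro T z hz
    obtain ⟨x, hx, y, hy, rfl⟩ := Subfield.mem_closure_iff.mp hz
    rw [Subring.closure_eq] at hx hy
    obtain ⟨a, ha, rfl⟩ := hx
    obtain ⟨b, hb, rfl⟩ := hy
    exact ⟨a, b, ha, hb, rfl⟩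
  have hmono : ∀ {T T' : Finset ι}, T ⊆ T' → F T' ≤ F T := fun {T T'} h => by
    refine Subfield.closure_mono ?_
    rintro _ ⟨a, ha, rfl⟩
    exact ⟨a, ⟨ha.1, fun i hi => ha.2 i (h hi)⟩, rfl⟩
  have hpow : ∀ (T T' : Finset ι), ∀ z ∈ F T', z ^ p ∈ F T := by
    intro T T' z hz
    obtain ⟨a, b, -, -, rfl⟩ := hFmem T' z hz
    rw [div_pow, ← map_pow, ← map_pow]
    exact div_mem (Subfield.subset_closure ⟨_, hpowk T a, rfl⟩) (Subfield.subset_closure ⟨_, hpowk T b, rfl⟩)
  have hroot : ∀ z, (∀ T, z ∈ F T) → ∃ w : L, w ^ p = z := by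
    intro z hz
    obtain ⟨a, b, -, -, rfl⟩ := hFmem ∅ z (hz ∅)
    by_cases hb0 : b = 0
    · exact ⟨0, by rw [zero_pow (Fact.out : p.Prime).ne_zero, hb0, map_zero, div_zero]⟩
    obtain ⟨g, hg⟩ := exists_root_of_killed δ p hδ (f := a * b ^ (p - 1)) fun T => by
      obtain ⟨a', b', ha', hb', h⟩ := hFmem T _ (hz T)
      by_cases hb0' : b' = 0
      · rw [hb0', map_zero, div_zero, div_eq_zero_iff] at h
        rcases h with h | h
        · rw [(injective_iff_map_eq_zero ψ).mp hψ a h, zero_mul]; exact zero_mem _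
        · exact absurd ((injective_iff_map_eq_zero ψ).mp hψ b h) hb0
      rw [div_eq_div_iff ((map_ne_zero_iff ψ hψ).mpr hb0) ((map_ne_zero_iff ψ hψ).mpr hb0'), ← map_mul, ← map_mul] at h
      have hc : a * b ^ (p - 1) * b' = a' * b ^ p := by
        rw [mul_right_comm, hψ h, mul_assoc, ← pow_succ', Nat.sub_add_cancel (Fact.out : p.Prime).one_le]
      refine ⟨fun j => ?_, fun i hi => ?_⟩
      · have h1 := congrArg (MvPowerSeries.pderiv Λ j) hc
        rw [Derivation.leibniz, Derivation.leibniz (MvPowerSeries.pderiv Λ j) a', hb'.1 j, ha'.1 j,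
          (hpowk T b).1 j, smul_zero, smul_zero, smul_zero, add_zero, zero_add, smul_eq_mul] at h1
        exact (mul_eq_zero.mp h1).resolve_left hb0'
      · have h1 := congrArg (coeffDer (δ i)) hc
        rw [Derivation.leibniz, Derivation.leibniz (coeffDer (δ i)) a', hb'.2 i hi, ha'.2 i hi,
          (hpowk T b).2 i hi, smul_zero, smul_zero, smul_zero, add_zero, zero_add, smul_eq_mul] at h1
        exact (mul_eq_zero.mp h1).resolve_left hb0'
    refine ⟨ψ g / ψ b, ?_⟩
    have hb' : ψ b ≠ 0 := (map_ne_zero_iff ψ hψ).mpr hb0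
    rw [div_pow, ← map_pow, hg, map_mul, map_pow, ← Nat.sub_add_cancel (Fact.out : p.Prime).one_le, pow_succ,
      Nat.add_sub_cancel]
    field_simp
  haveI hfinL : ∀ T, Module.Finite (F T) L := fun T => finite_fieldKilled A L p φ hφfin δ hfin T
  obtain ⟨N, e', he'⟩ := Module.Finite.exists_fin (R := F ∅) (M := L)
  let V : ∀ T, Submodule (F T) L := fun T => Submodule.span (F T) (Set.range fun l => e' l ^ p)
  have hLp : ∀ T (x : L), x ^ p ∈ V T := by
    intro T x
    obtain ⟨c, rfl⟩ := (Submodule.mem_span_range_iff_exists_fun _).mp (he' ▸ Submodule.mem_top : x ∈ _)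
    rw [sum_pow_char]
    refine sum_mem fun l _ => ?_
    rw [Subfield.smul_def, smul_eq_mul, mul_pow]
    exact (V T).smul_mem (⟨_, hpow T ∅ _ (c l).2⟩ : F T) (Submodule.subset_span ⟨l, rfl⟩)
  by_cases hcase : ∀ T, algebraMap A L f ∈ V T
  · exfalso
    obtain ⟨w, hw⟩ := exists_root_of_mem_all p F hmono hroot e' _ hcase
    exact hf w hw
  push Not at hcase
  obtain ⟨T, hT⟩ := hcase
  have hmul : ∀ x ∈ V T, ∀ y ∈ V T, x * y ∈ V T := by
    intro x hx y hy
    induction hx using Submodule.span_induction with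
    | mem z hz =>
      obtain ⟨l, rfl⟩ := hz
      induction hy using Submodule.span_induction with
      | mem w hw => obtain ⟨l', rfl⟩ := hw; rw [← mul_pow]; exact hLp T _
      | zero => simp
      | add _ _ _ _ h1 h2 => rw [mul_add]; exact add_mem h1 h2
      | smul c _ _ h1 => rw [mul_smul_comm]; exact (V T).smul_mem c h1
    | zero => simp
    | add _ _ _ _ h1 h2 => rw [add_mul]; exact add_mem h1 h2
    | smul c _ _ h1 => rw [smul_mul_assoc]; exact (V T).smul_mem c h1
  have hone : (1 : L) ∈ V T := by have := hLp T 1; rwa [one_pow] at this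
  have hpowV : ∀ x ∈ V T, ∀ m : ℕ, x ^ m ∈ V T := fun x hx m => by
    induction m with
    | zero => rwa [pow_zero]
    | succ m ih => rw [pow_succ]; exact hmul _ ih _ hx
  let E : Subfield L :=
    { carrier := V T
      mul_mem' := fun {a b} ha hb => hmul a ha b hb
      one_mem' := hone
      add_mem' := fun ha hb => (V T).add_mem ha hb
      zero_mem' := (V T).zero_mem
      neg_mem' := fun ha => (V T).neg_mem ha
      inv_mem' := fun x hx => by
        by_cases hx0 : x = 0
        · rw [hx0, inv_zero]; exact (V T).zero_mem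
        have h := hmul _ (hpowV x hx (p - 1)) _ (hLp T x⁻¹)
        rwa [← Nat.sub_add_cancel (Fact.out : p.Prime).one_le, pow_succ, Nat.add_sub_cancel, ← mul_assoc,
          ← mul_pow, mul_inv_cancel₀ hx0, one_pow, one_mul] at h }
  obtain ⟨d, hd⟩ := KaehlerSubfield.exists_derivation p E (fun x => hLp T x) (y := algebraMap A L f) hT
  have hdk : ∀ c ∈ killed (n := n) δ T, d (ψ c) = 0 := fun c hc => d.map_algebraMap (⟨ψ c, by
    show ψ c ∈ V T
    rw [← mul_one (ψ c)]
    exact (V T).smul_mem (⟨ψ c, Subfield.subset_closure ⟨_, hc, rfl⟩⟩ : F T) hone⟩ : E)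
  exact exists_scaled_derivation A L p φ hφfin δ hfin T d hdk f hd

/-- Derivations of complete local domains detect elements which are not `p`-th powers. -/
theorem exists_derivation_of_not_pow (A : Type u) [CommRing A] [IsDomain A] [IsLocalRing A] [IsNoetherianRing A]
    [IsAdicComplete (maximalIdeal A) A] (L : Type u) [Field L] [Algebra A L] [IsFractionRing A L]
    (p : ℕ) [Fact p.Prime] [CharP A p] (f : A) (hf : ∀ z : L, z ^ p ≠ algebraMap A L f) :
    ∃ D : Derivation ℤ A A, D f ≠ 0 := by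
  obtain ⟨Λ, i1, n, φ, hΛ, hφinj, hφfin, -⟩ := exists_finite_injective A
  rcases hΛ with hF | ⟨-, h0⟩
  · letI := hF.toField
    exact exists_derivation_of_finite A L p f hf Λ n φ hφinj hφfin
  · exact absurd ((ringChar.eq A p).symm.trans h0) (Fact.out : p.Prime).ne_zero

end Groth.Agent.CplDomain
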