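import Groth.Prelude.Def_EGA4b
import Groth.Agent.Lib.CplLocH7.Basic
import Mathlib

/-! # Extending derivations to localizations, completions and tensor products -/

set_option autoImplicit false
universe u v w

open IsLocalRing TensorProduct

namespace Groth.Agent.CplDomain

/-- A derivation extends to a localization. -/
theorem exists_derivation_localization {P : Type u} [CommRing P] (S : Submonoid P) {R : Type v} [CommRing R]
    [Algebra P R] [IsLocalization S R] {N : Type w} [AddCommGroup N] [Module P N] [Module R N] [IsScalarTower P R N]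
    (d : Derivation ℤ P N) : ∃ D : Derivation ℤ R N, ∀ a : P, D (algebraMap P R a) = d a := by
  classical
  have hU : ∀ (s : S) (n n' : N), (s : P) • n = (s : P) • n' → n = n' := fun s n n' h => by
    rw [← algebraMap_smul R (s : P) n, ← algebraMap_smul R (s : P) n'] at h
    exact (IsLocalization.map_units R s).smul_left_cancel.1 h
  -- the value at `x` of the extension is characterized by any presentation of `x`
  have key : ∀ x : R, ∃ n : N, ∀ (a : P) (s : S), x * algebraMap P R (s : P) = algebraMap P R a →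
      (s : P) • n = d a - x • d (s : P) := by
    intro x
    obtain ⟨a₀, s₀, hx₀⟩ := IsLocalization.exists_mk'_eq S x
    have hx₀' : x * algebraMap P R (s₀ : P) = algebraMap P R a₀ := by rw [← hx₀, IsLocalization.mk'_spec]
    obtain ⟨u, hu⟩ := IsLocalization.map_units R s₀
    refine ⟨((u⁻¹ : Rˣ) : R) • (d a₀ - x • d (s₀ : P)), fun a s hx => ?_⟩
    refine hU s₀ _ _ ?_
    rw [smul_comm (s₀ : P) (s : P), ← algebraMap_smul R (s₀ : P) (((u⁻¹ : Rˣ) : R) • _), ← hu, smul_smul, Units.mul_inv,
      one_smul]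
    have h1 : algebraMap P R (a₀ * s) = algebraMap P R (a * s₀) := by
      rw [map_mul, map_mul, ← hx₀', ← hx]; ring
    obtain ⟨⟨t, ht⟩, hteq⟩ := (IsLocalization.eq_iff_exists S R).1 h1
    have h2 : d (a₀ * s) = d (a * s₀) := by
      have h3 : d (t * (a₀ * s)) = d (t * (a * s₀)) := congrArg d hteq
      rw [d.leibniz t (a₀ * s), d.leibniz t (a * s₀), ← algebraMap_smul R (a₀ * s : P) (d t), ← algebraMap_smul R (a * s₀ : P) (d t),
        h1, add_left_inj] at h3
      exact hU ⟨t, ht⟩ _ _ h3
    rw [d.leibniz, d.leibniz, ← algebraMap_smul R a₀ (d (s : P)), ← algebraMap_smul R a (d (s₀ : P)), ← hx₀', ← hx,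
      mul_comm x, mul_comm x, mul_smul, mul_smul, algebraMap_smul, algebraMap_smul] at h2
    rw [smul_sub, smul_sub]
    linear_combination (norm := abel) h2
  choose D hD using key
  have huniq : ∀ (x : R) (a : P) (s : S) (n : N), x * algebraMap P R (s : P) = algebraMap P R a →
      (s : P) • n = d a - x • d (s : P) → D x = n := fun x a s n hx hn => hU s _ _ ((hD x a s hx).trans hn.symm)
  have hsurj : ∀ x : R, ∃ (a : P) (s : S), x * algebraMap P R (s : P) = algebraMap P R a := fun x => by
    obtain ⟨⟨a, s⟩, h⟩ := IsLocalization.surj S x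
    exact ⟨a, s, h⟩
  have hadd : ∀ x y : R, D (x + y) = D x + D y := fun x y => by
    obtain ⟨a, s, hx⟩ := hsurj x
    obtain ⟨b, t, hy⟩ := hsurj y
    refine huniq _ (a * t + b * s) (s * t) _ ?_ ?_
    · rw [map_add, map_mul, map_mul, ← hx, ← hy, Submonoid.coe_mul, map_mul]; ring
    · rw [Submonoid.coe_mul, smul_add, mul_smul, mul_smul, smul_comm (s : P) (t : P) (D x), hD x a s hx,
        hD y b t hy, map_add, d.leibniz, d.leibniz, d.leibniz, smul_add, smul_sub, smul_sub,
        smul_comm (x + y) (s : P), smul_comm (x + y) (t : P), add_smul, add_smul, smul_add, smul_add,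
        ← algebraMap_smul R a (d (t : P)), ← algebraMap_smul R b (d (s : P)), ← hx, ← hy,
        mul_comm x, mul_comm y, mul_smul, mul_smul, algebraMap_smul, algebraMap_smul]
      abel
  have hmul : ∀ x y : R, D (x * y) = x • D y + y • D x := fun x y => by
    obtain ⟨a, s, hx⟩ := hsurj x
    obtain ⟨b, t, hy⟩ := hsurj y
    refine huniq _ (a * b) (s * t) _ ?_ ?_
    · rw [map_mul, ← hx, ← hy, Submonoid.coe_mul, map_mul]; ring
    · rw [Submonoid.coe_mul, smul_add, mul_smul, mul_smul, smul_comm (t : P) x, hD y b t hy,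
        smul_comm (s : P) (t : P) (y • D x), smul_comm (s : P) y, hD x a s hx, d.leibniz, d.leibniz,
        smul_add (x * y), ← algebraMap_smul R a (d b), ← algebraMap_smul R b (d a), ← hx, ← hy,
        ← algebraMap_smul R (s : P), ← algebraMap_smul R (t : P), ← algebraMap_smul R (s : P) (d (t : P)),
        ← algebraMap_smul R (t : P) (d (s : P))]
      simp only [smul_sub, smul_smul]
      module
  refine ⟨Derivation.mk' (AddMonoidHom.toIntLinearMap (AddMonoidHom.mk' D hadd)) hmul, fun a => ?_⟩
  refine huniq _ a 1 _ (by simp) ?_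
  simp

section Completion

variable {R : Type u} [CommRing R] [IsNoetherianRing R] [IsLocalRing R]
  {N : Type v} [AddCommGroup N] [Module R N] [Module (EGA4.Cpl R) N] [IsScalarTower R (EGA4.Cpl R) N]

theorem derivation_mem_pow_smul (d : Derivation ℤ R N) (k : ℕ) :
    ∀ r ∈ maximalIdeal R ^ (k + 1), d r ∈ maximalIdeal R ^ k • (⊤ : Submodule R N) := by
  induction k with
  | zero => intro r _; rw [pow_zero, Ideal.one_eq_top, Submodule.top_smul]; trivial
  | succ k ih =>
    intro r hr
    rw [pow_succ] at hr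
    refine Submodule.mul_induction_on hr (fun a ha b hb => ?_) fun x y hx hy => by rw [map_add]; exact add_mem hx hy
    rw [d.leibniz]
    refine add_mem (Submodule.smul_mem_smul ha trivial) ?_
    rw [pow_succ', ← smul_eq_mul, Submodule.smul_assoc]
    exact Submodule.smul_mem_smul hb (ih a ha)

theorem smul_mem_pow_smul (k : ℕ) {x : EGA4.Cpl R} (hx : x ∈ maximalIdeal (EGA4.Cpl R) ^ k) (n : N) :
    x • n ∈ maximalIdeal R ^ k • (⊤ : Submodule R N) := by
  rw [CplLocH7.maximalIdeal_cpl, ← Ideal.map_pow, Ideal.map] at hx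
  revert n
  refine Submodule.span_induction ?_ (fun n => by simp) (fun y z _ _ hy hz n => ?_) (fun c y _ hy n => ?_) hx
  · rintro _ ⟨r, hr, rfl⟩ n
    rw [algebraMap_smul]
    exact Submodule.smul_mem_smul hr trivial
  · rw [add_smul]; exact add_mem (hy n) (hz n)
  · rw [smul_eq_mul, mul_comm, mul_smul]; exact hy (c • n)

/-- A derivation extends to the completion. -/
theorem exists_derivation_completion [IsAdicComplete (maximalIdeal R) N] (d : Derivation ℤ R N) :
    ∃ D : Derivation ℤ (EGA4.Cpl R) N, ∀ a : R, D (algebraMap R (EGA4.Cpl R) a) = d a := by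
  set M := maximalIdeal (EGA4.Cpl R)
  let ι := algebraMap R (EGA4.Cpl R)
  have hind : ∀ (k : ℕ) (t : EGA4.Cpl R) (a b : R), t - ι a ∈ M ^ (k + 1) → t - ι b ∈ M ^ (k + 1) →
      d a - d b ∈ maximalIdeal R ^ k • (⊤ : Submodule R N) := fun k t a b ha hb => by
    rw [← map_sub]
    refine derivation_mem_pow_smul d k _ ((CplLocH7.mem_pow_iff (k + 1) (a - b)).1 ?_)
    have := sub_mem hb ha
    rwa [sub_sub_sub_cancel_left, ← map_sub] at this
  have key : ∀ t : EGA4.Cpl R, ∃ n : N, ∀ (k : ℕ) (a : R), t - ι a ∈ M ^ (k + 1) →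
      n - d a ∈ maximalIdeal R ^ k • (⊤ : Submodule R N) := by
    intro t
    choose a ha using fun k : ℕ => CplLocH7.exists_sub_mem_pow (k + 1) t
    obtain ⟨n, hn⟩ := IsPrecomplete.prec (inferInstance : IsPrecomplete (maximalIdeal R) N) (f := fun k => d (a k))
      (fun {i j} hij => SModEq.sub_mem.2 (hind i t _ _ (ha i) (Ideal.pow_le_pow_right (by omega) (ha j))))
    refine ⟨n, fun k b hb => ?_⟩
    have h1 := SModEq.sub_mem.1 (hn k)
    have h2 := hind k t _ _ (ha k) hb
    have := add_mem (neg_mem h1) h2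
    rwa [neg_sub, sub_add_sub_cancel] at this
  choose D hD using key
  have hzero : ∀ x : N, (∀ k, x ∈ maximalIdeal R ^ k • (⊤ : Submodule R N)) → x = 0 := fun x hx =>
    IsHausdorff.haus (inferInstance : IsHausdorff (maximalIdeal R) N) x fun k => by
      rw [SModEq.zero]; exact hx k
  have happ : ∀ (k : ℕ) (t : EGA4.Cpl R), ∃ a : R, t - ι a ∈ M ^ (k + 1) :=
    fun k t => CplLocH7.exists_sub_mem_pow (k + 1) t
  have hadd : ∀ x y, D (x + y) = D x + D y := fun x y => by
    refine sub_eq_zero.1 (hzero _ fun k => ?_)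
    obtain ⟨a, ha⟩ := happ k x
    obtain ⟨b, hb⟩ := happ k y
    have h := hD (x + y) k (a + b) (by rw [map_add, add_sub_add_comm]; exact add_mem ha hb)
    have := sub_mem h (add_mem (hD x k a ha) (hD y k b hb))
    convert this using 1
    rw [map_add]; abel
  have hmul : ∀ x y, D (x * y) = x • D y + y • D x := fun x y => by
    refine sub_eq_zero.1 (hzero _ fun k => ?_)
    obtain ⟨a, ha⟩ := happ k x
    obtain ⟨b, hb⟩ := happ k y
    have h := hD (x * y) k (a * b) (by
      rw [map_mul, show x * y - ι a * ι b = x * (y - ι b) + ι b * (x - ι a) by ring]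
      exact add_mem (Ideal.mul_mem_left _ _ hb) (Ideal.mul_mem_left _ _ ha))
    have h1 := Submodule.smul_mem _ a (hD y k b hb)
    have h2 := Submodule.smul_mem _ b (hD x k a ha)
    have h3 := smul_mem_pow_smul k (Ideal.pow_le_pow_right (Nat.le_succ k) ha) (D y)
    have h4 := smul_mem_pow_smul k (Ideal.pow_le_pow_right (Nat.le_succ k) hb) (D x)
    have := sub_mem h (add_mem (add_mem h1 h2) (add_mem h3 h4))
    convert this using 1
    rw [d.leibniz, smul_sub, smul_sub, sub_smul, sub_smul, algebraMap_smul, algebraMap_smul]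
    abel
  refine ⟨Derivation.mk' (AddMonoidHom.toIntLinearMap (AddMonoidHom.mk' D hadd)) hmul, fun a => ?_⟩
  exact sub_eq_zero.1 (hzero _ fun k => hD _ k a (by rw [sub_self]; exact zero_mem _))

end Completion

/-- Gluing derivations on a tensor product. -/
theorem exists_derivation_tensor' {P : Type u} [CommRing P] {T : Type v} [CommRing T] [Algebra P T] {M : Type w}
    [CommRing M] [Algebra P M] (D : Derivation ℤ M M) (dT : Derivation ℤ T (T ⊗[P] M))
    (h : ∀ a : P, dT (algebraMap P T a) = (1 : T) ⊗ₜ[P] D (algebraMap P M a)) :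
    ∃ Δ : Derivation ℤ (T ⊗[P] M) (T ⊗[P] M), (∀ m : M, Δ ((1 : T) ⊗ₜ[P] m) = (1 : T) ⊗ₜ[P] D m) ∧
      ∀ t : T, Δ (t ⊗ₜ[P] (1 : M)) = dT t := by
  let f : T →+ M →+ T ⊗[P] M := AddMonoidHom.mk' (fun t =>
    AddMonoidHom.mk' (fun m => ((1 : T) ⊗ₜ[P] m) * dT t + t ⊗ₜ[P] D m) fun m m' => by
      rw [tmul_add, map_add, tmul_add, add_mul]; abel) fun t t' => by
    ext m
    simp only [AddMonoidHom.mk'_apply, AddMonoidHom.add_apply, map_add, mul_add, add_tmul]
    abel
  let L : T ⊗[P] M →+ T ⊗[P] M := TensorProduct.liftAddHom f fun r t m => by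
    simp only [f, AddMonoidHom.mk'_apply]
    rw [Algebra.smul_def r t, Algebra.smul_def r m, dT.leibniz, h, D.leibniz, tmul_add, Algebra.smul_def,
      Algebra.smul_def, mul_add]
    simp only [smul_eq_mul, Algebra.TensorProduct.algebraMap_apply, Algebra.algebraMap_self, RingHom.id_apply]
    simp only [← mul_assoc, Algebra.TensorProduct.tmul_mul_tmul, one_mul, mul_one]
    have e1 : ∀ (a : T) (b : M), (algebraMap P T r * a) ⊗ₜ[P] b = a ⊗ₜ[P] (algebraMap P M r * b) := fun a b => by
      rw [← Algebra.smul_def, ← Algebra.smul_def, smul_tmul]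
    rw [e1 t (D m), show (algebraMap P T r) ⊗ₜ[P] m = (1 : T) ⊗ₜ[P] (algebraMap P M r * m) by
      rw [← e1 1 m, mul_one], mul_comm m (D _)]
    abel
  have hL : ∀ t m, L (t ⊗ₜ[P] m) = ((1 : T) ⊗ₜ[P] m) * dT t + t ⊗ₜ[P] D m := fun t m => TensorProduct.liftAddHom_tmul ..
  have hmul : ∀ x y, L (x * y) = x • L y + y • L x := fun x y => by
    induction x using TensorProduct.induction_on with
    | zero => simp
    | add x x' hx hx' => rw [add_mul, map_add, map_add, hx, hx', add_smul, smul_add]; abel
    | tmul t m =>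
      induction y using TensorProduct.induction_on with
      | zero => simp
      | add y y' hy hy' => rw [mul_add, map_add, map_add, hy, hy', smul_add, add_smul]; abel
      | tmul t' m' =>
        rw [Algebra.TensorProduct.tmul_mul_tmul, hL, hL, hL, dT.leibniz, D.leibniz]
        simp only [smul_eq_mul, Algebra.smul_def, tmul_add, mul_add, Algebra.TensorProduct.algebraMap_apply,
          Algebra.algebraMap_self, RingHom.id_apply, ← mul_assoc, Algebra.TensorProduct.tmul_mul_tmul, one_mul,
          mul_one, mul_comm m' m, mul_comm t' t]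
        abel
  refine ⟨⟨⟨⟨L, map_add L⟩, fun z x => map_zsmul L z x⟩, ?_, hmul⟩, fun m => ?_, fun t => ?_⟩
  · show L 1 = 0
    have := hmul 1 1
    rw [mul_one, one_smul] at this
    exact (add_eq_left.1 this.symm)
  · exact (hL 1 m).trans (by rw [Derivation.map_one_eq_zero, mul_zero, zero_add])
  · exact (hL t 1).trans (by rw [D.map_one_eq_zero, tmul_zero, add_zero, ← Algebra.TensorProduct.one_def, one_mul])

/-- Gluing derivations on a tensor product, on the second factor. -/
theorem exists_derivation_tensor {P : Type u} [CommRing P] {T : Type v} [CommRing T] [Algebra P T] {M : Type w}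
    [CommRing M] [Algebra P M] (D : Derivation ℤ M M) (dT : Derivation ℤ T (T ⊗[P] M))
    (h : ∀ a : P, dT (algebraMap P T a) = (1 : T) ⊗ₜ[P] D (algebraMap P M a)) :
    ∃ Δ : Derivation ℤ (T ⊗[P] M) (T ⊗[P] M), ∀ m : M, Δ ((1 : T) ⊗ₜ[P] m) = (1 : T) ⊗ₜ[P] D m := by
  obtain ⟨Δ, hΔ, -⟩ := exists_derivation_tensor' D dT h
  exact ⟨Δ, hΔ⟩

end Groth.Agent.CplDomain
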