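import Groth.Agent.Lib.CplDomain.Tower
import Groth.Agent.Lib.CplDomain.Deriv
import Groth.Agent.Lib.CplDomain.DerivExtend
import Groth.Agent.Lib.FlatDepth.FieldExt
import Groth.Agent.Lib.RegLoc.GlobalDim
import Groth.Agent.Lib.Compl.Dim
import Mathlib

/-! # Generic formal fibres over a regular complete local domain -/

set_option autoImplicit false
universe u

open IsLocalRing TensorProduct Polynomial

namespace Groth.Agent.CplDomain

theorem isRegularRing_of_regularLocal (T : Type u) [CommRing T] [IsRegularLocalRing T] : IsRegularRing T := by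
  rw [isRegularRing_iff]
  exact fun q _ => RegLoc.isRegularLocalRing_localization T q

theorem isRegularRing_cpl_atPrime (P : Type u) [CommRing P] [IsRegularLocalRing P] (n : Ideal P) [n.IsPrime] :
    IsRegularRing (EGA4.Cpl (Localization.AtPrime n)) := by
  haveI := RegLoc.isRegularLocalRing_localization P n
  haveI : IsRegularLocalRing (EGA4.Cpl (Localization.AtPrime n)) :=
    (Compl.isRegularLocalRing_adicCompletion_iff (Localization.AtPrime n)).mp inferInstance
  exact isRegularRing_of_regularLocal _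

/-- Replace the `ℤ`-algebra structure by the standard one. -/
theorem exists_intDerivation {A N : Type u} [CommRing A] [AddCommGroup N] [Module A N] {i : Algebra ℤ A}
    (D : @Derivation ℤ A N _ _ _ i _ _) :
    ∃ D' : @Derivation ℤ A N _ _ _ (Ring.toIntAlgebra A) _ _, ∀ a, D' a = D a := by
  obtain rfl : i = Ring.toIntAlgebra A := Subsingleton.elim _ _
  exact ⟨D, fun _ => rfl⟩

/-- Composition of a derivation with a linear map. -/
theorem exists_comp_derivation {A N N' : Type u} [CommRing A] [AddCommGroup N] [Module A N] [AddCommGroup N'] [Module A N']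
    (f : N →ₗ[A] N') (d : Derivation ℤ A N) : ∃ d' : Derivation ℤ A N', ∀ a, d' a = f (d a) :=
  ⟨f.compDer d, fun _ => rfl⟩

/-- Base change of a root extension. -/
theorem nonempty_rootExt_equiv {P T M L : Type u} [CommRing P] [CommRing T] [Algebra P T] [Field M] [Field L]
    [Algebra P M] [Algebra P L] [Algebra M L] [IsScalarTower P M L] (p : ℕ) [Fact p.Prime] [CharP L p] (fM : M) (y : L)
    (hy : y ^ p = algebraMap M L fM) (hyM : y ∉ (algebraMap M L).range) (htop : Algebra.adjoin M {y} = ⊤) :
    Nonempty (RootExt (T ⊗[P] M) p ((1 : T) ⊗ₜ[P] fM) ≃+* T ⊗[P] L) := by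
  let e₀ : RootExt M p fM →ₐ[M] L := rootHom p fM y hy
  have hroot : e₀ (AdjoinRoot.root _) = y := AdjoinRoot.liftAlgHom_root ..
  have he₀ : Function.Bijective e₀ := by
    refine ⟨rootHom_injective (M := M) p fM y hy hyM, fun z => ?_⟩
    obtain ⟨g, hg⟩ : ∃ g : Polynomial M, aeval y g = z := by
      have : z ∈ Algebra.adjoin M {y} := htop ▸ trivial
      rwa [Algebra.adjoin_singleton_eq_range_aeval] at this
    exact ⟨AdjoinRoot.mk _ g, (rootHom_mk p fM y hy g).trans hg⟩
  let e : RootExt M p fM ≃ₐ[M] L := AlgEquiv.ofBijective e₀ he₀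
  let b : L →ₐ[P] RootExt M p fM := (e.symm : L →ₐ[M] RootExt M p fM).restrictScalars P
  let q := AdjoinRoot.of (X ^ p - Polynomial.C ((1 : T) ⊗ₜ[P] fM) : (T ⊗[P] M)[X])
  let a : RootExt M p fM →+* RootExt (T ⊗[P] M) p ((1 : T) ⊗ₜ[P] fM) :=
    AdjoinRoot.lift (q.comp (Algebra.TensorProduct.includeRight : M →ₐ[P] T ⊗[P] M).toRingHom) (AdjoinRoot.root _) (by
      rw [eval₂_sub, eval₂_pow, eval₂_X, eval₂_C]
      have h := AdjoinRoot.eval₂_root (X ^ p - Polynomial.C ((1 : T) ⊗ₜ[P] fM) : (T ⊗[P] M)[X])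
      rw [eval₂_sub, eval₂_pow, eval₂_X, eval₂_C] at h
      exact h)
  have ha : ∀ m : M, a (algebraMap M _ m) = q ((1 : T) ⊗ₜ[P] m) := fun m => AdjoinRoot.lift_of ..
  let aP : RootExt M p fM →ₐ[P] RootExt (T ⊗[P] M) p ((1 : T) ⊗ₜ[P] fM) :=
    { toRingHom := a
      commutes' := fun r => by
        show a (algebraMap P (RootExt M p fM) r) = _
        rw [IsScalarTower.algebraMap_apply P M (RootExt M p fM), ha,
          IsScalarTower.algebraMap_apply P (T ⊗[P] M) (RootExt (T ⊗[P] M) p ((1 : T) ⊗ₜ[P] fM))]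
        exact congrArg q ((Algebra.TensorProduct.includeRight : M →ₐ[P] T ⊗[P] M).commutes r) }
  let ψ : T ⊗[P] L →ₐ[P] RootExt (T ⊗[P] M) p ((1 : T) ⊗ₜ[P] fM) :=
    Algebra.TensorProduct.lift
      ((IsScalarTower.toAlgHom P (T ⊗[P] M) _).comp Algebra.TensorProduct.includeLeft) (aP.comp b) fun _ _ => Commute.all _ _
  have hψ : ∀ t l, ψ (t ⊗ₜ[P] l) = q (t ⊗ₜ[P] (1 : M)) * a (b l) := fun t l => Algebra.TensorProduct.lift_tmul ..
  let i : T ⊗[P] M →ₐ[P] T ⊗[P] L := Algebra.TensorProduct.map (AlgHom.id P T) (IsScalarTower.toAlgHom P M L)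
  let φ : RootExt (T ⊗[P] M) p ((1 : T) ⊗ₜ[P] fM) →+* T ⊗[P] L := AdjoinRoot.lift i.toRingHom ((1 : T) ⊗ₜ[P] y) (by
    rw [eval₂_sub, eval₂_pow, eval₂_X, eval₂_C, Algebra.TensorProduct.tmul_pow, one_pow, hy]
    exact sub_self _)
  have hφq : ∀ r, φ (q r) = i r := fun r => AdjoinRoot.lift_of ..
  have hφa : ∀ z, φ (a z) = (1 : T) ⊗ₜ[P] e z := fun z => by
    suffices h : φ.comp a = (Algebra.TensorProduct.includeRight : L →ₐ[P] T ⊗[P] L).toRingHom.comp (e : RootExt M p fM →+* L) from
      RingHom.congr_fun h z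
    refine AdjoinRoot.ringHom_ext (RingHom.ext fun m => ?_) ?_
    · show φ (a (algebraMap M _ m)) = (1 : T) ⊗ₜ[P] e (algebraMap M _ m)
      rw [ha, hφq, e.commutes]
      rfl
    · show φ (a (AdjoinRoot.root _)) = (1 : T) ⊗ₜ[P] e₀ (AdjoinRoot.root _)
      rw [show a (AdjoinRoot.root _) = AdjoinRoot.root _ from AdjoinRoot.lift_root .., hroot]
      exact AdjoinRoot.lift_root ..
  refine ⟨RingEquiv.ofRingHom φ ψ.toRingHom ?_ ?_⟩
  · refine RingHom.ext fun x => ?_
    show φ (ψ x) = x
    induction x using TensorProduct.induction_on with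
    | zero => rw [map_zero, map_zero]
    | add u v hu hv => rw [map_add, map_add, hu, hv]
    | tmul t l =>
      rw [hψ, map_mul, hφa, hφq, show e (b l) = l from e.apply_symm_apply l]
      show (t ⊗ₜ[P] algebraMap M L 1) * _ = _
      rw [map_one, Algebra.TensorProduct.tmul_mul_tmul, mul_one, one_mul]
  · refine AdjoinRoot.ringHom_ext (RingHom.ext fun r => ?_) ?_
    · show ψ (φ (q r)) = q r
      induction r using TensorProduct.induction_on with
      | zero => simp only [map_zero]
      | add u v hu hv => rw [map_add, map_add, map_add, hu, hv]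
      | tmul t m =>
        rw [hφq]
        show ψ (t ⊗ₜ[P] algebraMap M L m) = _
        rw [hψ, show b (algebraMap M L m) = algebraMap M _ m from e.symm.commutes m, ha, ← map_mul,
          Algebra.TensorProduct.tmul_mul_tmul, mul_one, one_mul]
    · show ψ (φ (AdjoinRoot.root _)) = AdjoinRoot.root _
      rw [show φ (AdjoinRoot.root _) = (1 : T) ⊗ₜ[P] y from AdjoinRoot.lift_root .., hψ,
        show b y = AdjoinRoot.root _ from e.injective ((e.apply_symm_apply y).trans hroot.symm),
        show a (AdjoinRoot.root _) = AdjoinRoot.root _ from AdjoinRoot.lift_root .., ← Algebra.TensorProduct.one_def,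
        map_one, one_mul]


/-- A derivation into a finite algebra over a completed localization extends. -/
theorem exists_derivation_cpl_atPrime {Q : Type u} [CommRing Q] [IsNoetherianRing Q] (n : Ideal Q) [n.IsPrime]
    {N : Type u} [AddCommGroup N] [Module Q N] [Module (Localization.AtPrime n) N]
    [Module (EGA4.Cpl (Localization.AtPrime n)) N] [IsScalarTower Q (Localization.AtPrime n) N]
    [IsScalarTower (Localization.AtPrime n) (EGA4.Cpl (Localization.AtPrime n)) N]
    [Module.Finite (EGA4.Cpl (Localization.AtPrime n)) N] (d₀ : Derivation ℤ Q N) :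
    ∃ d : @Derivation ℤ (EGA4.Cpl (Localization.AtPrime n)) N _ _ _ (Ring.toIntAlgebra _) _ _,
      ∀ a : Q, d (algebraMap Q (EGA4.Cpl (Localization.AtPrime n)) a) = d₀ a := by
  let R := Localization.AtPrime n
  let T := EGA4.Cpl R
  haveI : IsAdicComplete (maximalIdeal T) T := by
    rw [CplLocH7.maximalIdeal_cpl]
    exact (IsAdicComplete.map_algebraMap_iff _ _).2 (AdicCompletion.isAdicComplete (IsNoetherian.noetherian _))
  haveI : IsAdicComplete (maximalIdeal T) N := Compl.isAdicComplete_of_finite _ _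
  haveI : IsAdicComplete (maximalIdeal R) N := by
    refine (IsAdicComplete.map_algebraMap_iff (S := T) _ _).1 ?_
    rw [← CplLocH7.maximalIdeal_cpl]
    infer_instance
  obtain ⟨d₁, hd₁⟩ := exists_derivation_localization n.primeCompl (R := R) d₀
  obtain ⟨d₂, hd₂⟩ := exists_derivation_completion d₁
  obtain ⟨d₃, hd₃⟩ := exists_intDerivation d₂
  exact ⟨d₃, fun a => by rw [hd₃, IsScalarTower.algebraMap_apply Q R T, hd₂, hd₁]⟩

/-- A derivation on the finite part glues with one on the completion. -/
theorem exists_derivation_glue {P T C M : Type u} [CommRing P] [CommRing T] [Algebra P T] [CommRing C] [Algebra P C]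
    [CommRing M] [Algebra P M] [Algebra C M] [IsScalarTower P C M] (D : Derivation ℤ C C) (DM : Derivation ℤ M M)
    (hDM : ∀ c : C, DM (algebraMap C M c) = algebraMap C M (D c)) (d : Derivation ℤ T (T ⊗[P] C))
    (hd : ∀ a : P, d (algebraMap P T a) = (1 : T) ⊗ₜ[P] D (algebraMap P C a)) :
    ∃ Δ : Derivation ℤ (T ⊗[P] M) (T ⊗[P] M), ∀ m : M, Δ (1 ⊗ₜ[P] m) = 1 ⊗ₜ[P] DM m := by
  let f : T ⊗[P] C →ₗ[T] T ⊗[P] M := (Algebra.TensorProduct.map (AlgHom.id T T) (IsScalarTower.toAlgHom P C M)).toLinearMap
  refine exists_derivation_tensor DM (f.compDer d) fun a => ?_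
  show f (d (algebraMap P T a)) = _
  rw [hd, IsScalarTower.algebraMap_apply P C M, hDM]
  rfl

/-- Derivations of finite algebras extend to derivations into the tensor product with `T`. -/
def HasExt (P T : Type u) [CommRing P] [CommRing T] [Algebra P T] : Prop :=
  ∀ (C : Type u) [CommRing C] [Algebra P C] [Module.Finite P C] (D : Derivation ℤ C C),
    ∃ d : @Derivation ℤ T (T ⊗[P] C) _ _ _ (Ring.toIntAlgebra T) _ _,
      ∀ a : P, d (algebraMap P T a) = (1 : T) ⊗ₜ[P] D (algebraMap P C a)

theorem hasExt_cpl (P : Type u) [CommRing P] [IsNoetherianRing P] (n : Ideal P) [n.IsPrime] :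
    HasExt P (EGA4.Cpl (Localization.AtPrime n)) := by
  intro C _ _ _ D
  let T := EGA4.Cpl (Localization.AtPrime n)
  let d₀ : Derivation ℤ P (T ⊗[P] C) :=
    { toFun := fun a => ((1 : T) ⊗ₜ[P] D (algebraMap P C a) : T ⊗[P] C)
      map_add' := fun a b => by rw [map_add, map_add, tmul_add]
      map_smul' := fun z a => by rw [RingHom.id_apply, map_zsmul, map_zsmul, TensorProduct.tmul_smul]
      map_one_eq_zero' := by show (1 : T) ⊗ₜ[P] D (algebraMap P C 1) = 0; rw [map_one, D.map_one_eq_zero, tmul_zero]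
      leibniz' := fun a b => by
        show (1 : T) ⊗ₜ[P] D (algebraMap P C (a * b)) = _
        rw [map_mul, D.leibniz, tmul_add, algebraMap_smul, algebraMap_smul, tmul_smul, tmul_smul]
        rfl }
  obtain ⟨d, hd⟩ := exists_derivation_cpl_atPrime n d₀
  exact ⟨d, hd⟩

variable (P : Type u) [CommRing P] [IsDomain P] [IsLocalRing P] [IsNoetherianRing P]
  [IsAdicComplete (maximalIdeal P) P] (T : Type u) [CommRing T] [Algebra P T]

/-- A `p`-th root extension preserves regularity of the generic formal fibre. -/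
theorem regular_formal_step (C : Type u) [CommRing C] [IsDomain C] [Algebra P C] [Module.Finite P C]
    (M : Type u) [Field M] [Algebra P M] [Algebra C M] [IsScalarTower P C M] [IsFractionRing C M]
    (L : Type u) [Field L] [Algebra P L] [Algebra M L] [IsScalarTower P M L] [Algebra C L] [IsScalarTower C M L]
    (p : ℕ) [Fact p.Prime] [CharP L p] [CharP C p] (f : C) (y : L) (hy : y ^ p = algebraMap C L f)
    (hyM : y ∉ (algebraMap M L).range) (htop : Algebra.adjoin M {y} = ⊤)
    (hext : HasExt P T) (hM : IsRegularRing (M ⊗[P] T)) : IsRegularRing (L ⊗[P] T) := by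
  obtain ⟨_, hcompl⟩ := completeLocal_of_finite P C
  haveI := hcompl
  haveI : IsNoetherianRing C := IsNoetherianRing.of_finite P C
  haveI : CharP M p := (algebraMap M L).charP (algebraMap M L).injective p
  obtain ⟨D, hD⟩ := exists_derivation_of_not_pow C M p f (not_pow_of_root p f y hy hyM)
  obtain ⟨DM, hDM⟩ := exists_derivation_localization (nonZeroDivisors C) (R := M) ((Algebra.linearMap C M).compDer D)
  obtain ⟨d, hd⟩ := hext C D
  obtain ⟨Δ₀, hΔ₀⟩ := exists_derivation_glue D DM hDM d hd
  obtain ⟨Δ, hΔ'⟩ := exists_intDerivation Δ₀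
  have hΔ : ∀ m : M, Δ (1 ⊗ₜ[P] m) = 1 ⊗ₜ[P] DM m := fun m => (hΔ' _).trans (hΔ₀ m)
  let R := T ⊗[P] M
  haveI : IsRegularRing R := @IsRegularRing.of_ringEquiv _ _ _ _ (Algebra.TensorProduct.comm P M T).toRingEquiv hM
  let fM := algebraMap C M f
  let fR : R := (1 : T) ⊗ₜ[P] fM
  have hyfM : y ^ p = algebraMap M L fM := hy.trans (IsScalarTower.algebraMap_apply C M L f)
  have hunit : IsUnit (Δ fR) := by
    rw [hΔ, hDM]
    exact (isUnit_iff_ne_zero.2 ((map_ne_zero_iff _ (IsFractionRing.injective C M)).2 hD)).map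
      (Algebra.TensorProduct.includeRight : M →ₐ[P] R)
  have hreg : IsRegularRing (RootExt R p fR) := by
    haveI : IsNoetherianRing (RootExt R p fR) := Ideal.Quotient.isNoetherianRing _
    rw [isRegularRing_iff]
    intro Q _
    haveI : Nontrivial R := nontrivial_of_ne (0 : R) 1 fun h => (Ideal.IsPrime.ne_top (I := Q.comap (algebraMap R (RootExt R p fR))) inferInstance) ((Ideal.eq_top_iff_one _).2 (h ▸ zero_mem _))
    haveI : CharP R p := by
      haveI : CharP M p := ‹_›
      exact CharP.of_ringHom_of_ne_zero (Algebra.TensorProduct.includeRight : M →ₐ[P] R).toRingHom p (Fact.out : p.Prime).ne_zero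
    exact regular_rootExt_at p fR Δ Q fun h =>
      (‹Q.IsPrime›).ne_top (Ideal.eq_top_of_isUnit_mem _ h (hunit.map _))
  obtain ⟨e⟩ := nonempty_rootExt_equiv (P := P) (T := T) p fM y hyfM hyM htop
  exact @IsRegularRing.of_ringEquiv _ _ _ _ (e.trans (Algebra.TensorProduct.comm P T L).toRingEquiv) hreg

/-- Generic formal fibres over a regular complete local domain are regular after finite extension. -/
theorem regular_tensor_tower (P : Type u) [CommRing P] [IsRegularLocalRing P]
    [IsAdicComplete (maximalIdeal P) P] (T : Type u) [CommRing T] [Algebra P T] [IsRegularRing T] (hext : HasExt P T)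
    (K : Type u) [Field K] [Algebra P K] [IsFractionRing P K] :
    ∀ (L : Type u) [Field L] [Algebra K L] [FiniteDimensional K L] [Algebra P L] [IsScalarTower P K L],
      IsRegularRing (L ⊗[P] T) := by
  haveI := RegLoc.isDomain P
  refine tower_induction K (fun L _ _ => ∀ [Algebra P L] [IsScalarTower P K L],
    IsRegularRing (L ⊗[P] T)) ?_ ?_
  · intro L _ _ _ _ _ _
    haveI : IsRegularRing (T ⊗[P] K) :=
      FlatDepth.isRegularRing_of_isLocalization (Algebra.algebraMapSubmonoid T (nonZeroDivisors P))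
    haveI : IsRegularRing (K ⊗[P] T) := IsRegularRing.of_ringEquiv (Algebra.TensorProduct.comm P T K).toRingEquiv
    haveI : IsRegularRing ((K ⊗[P] T) ⊗[K] L) := FlatDepth.isRegularRing_tensor_separable (K ⊗[P] T) L
    exact @IsRegularRing.of_ringEquiv _ _ _ _ ((Algebra.TensorProduct.comm K (K ⊗[P] T) L).toRingEquiv.trans
      (Algebra.TensorProduct.cancelBaseChange P K K L T).toRingEquiv) ‹IsRegularRing ((K ⊗[P] T) ⊗[K] L)›
  · intro L _ _ _ p _ _ M y hyM hyp htop hM _ _
    letI : Algebra P M := ((algebraMap K M).comp (algebraMap P K)).toAlgebra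
    haveI : IsScalarTower P K M := .of_algebraMap_eq fun _ => rfl
    haveI : IsScalarTower P M L := .of_algebraMap_eq fun x => IsScalarTower.algebraMap_apply P K L x
    haveI : CharP L p := charP_of_injective_algebraMap (algebraMap K L).injective p
    obtain ⟨C, _, _, _, _, _, hfin, hfrac⟩ := FlatDepth.exists_finite_fractionRing P K M
    haveI := hfin
    haveI := hfrac
    haveI : CharP M p := charP_of_injective_algebraMap (algebraMap K M).injective p
    haveI : CharP C p := RingHom.charP (algebraMap C M) (IsFractionRing.injective C M) p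
    obtain ⟨y', f, hy', hy'M, htop'⟩ := exists_scaled_root C M L p (Fact.out : p.Prime).pos y
      (fun ⟨m, hm⟩ => hyM (hm ▸ m.2)) ⟨⟨_, hyp⟩, rfl⟩ htop
    letI : Algebra C L := ((algebraMap M L).comp (algebraMap C M)).toAlgebra
    haveI : IsScalarTower C M L := .of_algebraMap_eq fun _ => rfl
    exact regular_formal_step P T C M L p f y' hy' hy'M htop' hext hM

/-- Generic formal fibres over a regular complete local domain. -/
theorem regular_formal_generic (P : Type u) [CommRing P] [IsRegularLocalRing P]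
    [IsAdicComplete (maximalIdeal P) P] (n : Ideal P) [n.IsPrime] (K : Type u) [Field K] [Algebra P K] [IsFractionRing P K]
    (L : Type u) [Field L] [Algebra K L] [FiniteDimensional K L] [Algebra P L] [IsScalarTower P K L] :
    IsRegularRing (L ⊗[P] EGA4.Cpl (Localization.AtPrime n)) :=
  haveI := isRegularRing_cpl_atPrime P n
  regular_tensor_tower P (EGA4.Cpl (Localization.AtPrime n)) (hasExt_cpl P n) K L

end Groth.Agent.CplDomain
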