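import Groth.Agent.Lib.CplDomain.Tower
import Groth.Agent.Lib.CplDomain.Deriv
import Groth.Agent.Lib.CplDomain.Normalization
import Groth.Agent.Lib.RegLoc.UFD
import Groth.Agent.Lib.Cohen.Structure
import Mathlib

/-! # Complete local rings are Nagata -/

set_option autoImplicit false
universe u

open IsLocalRing

namespace Groth.Agent.CplDomain

theorem derivation_descFactorial_sum {C : Type u} [CommRing C] (p : ℕ) [CharP C p] (D : Derivation ℤ C C) (f : C)
    (a : ℕ → C) (j : ℕ) :
    D (∑ i ∈ Finset.range p, (i.descFactorial j : C) * a i ^ p * f ^ (i - j)) =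
      D f * ∑ i ∈ Finset.range p, (i.descFactorial (j + 1) : C) * a i ^ p * f ^ (i - (j + 1)) := by
  rw [map_sum, Finset.mul_sum]
  refine Finset.sum_congr rfl fun i _ => ?_
  rw [mul_assoc, Derivation.leibniz, Derivation.map_natCast, smul_zero, add_zero, Derivation.leibniz,
    derivation_pow_char p D, smul_zero, add_zero, Derivation.leibniz_pow, Nat.descFactorial_succ,
    show i - j - 1 = i - (j + 1) by omega, nsmul_eq_mul, Nat.cast_mul]
  simp only [smul_eq_mul]
  ring

/-- Divisibility of the coefficients of a `p`-th power by descent along a derivation. -/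
theorem coeff_dvd_of_derivation {C : Type u} [CommRing C] (p : ℕ) [hp : Fact p.Prime] [CharP C p]
    (D : Derivation ℤ C C) (f : C) (a : ℕ → C) (b : C)
    (h : b ^ p ∣ ∑ i ∈ Finset.range p, a i ^ p * f ^ i) :
    ∀ i < p, b ^ p ∣ D f ^ (2 * p) * a i ^ p := by
  let H : ℕ → C := fun j => ∑ i ∈ Finset.range p, (i.descFactorial j : C) * a i ^ p * f ^ (i - j)
  have hH : ∀ j, b ^ p ∣ D f ^ (2 * j) * H j := by
    intro j
    induction j with
    | zero => simpa [H] using h
    | succ j ih =>
      obtain ⟨c, hc⟩ := ih
      have h1 := congrArg D hc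
      rw [Derivation.leibniz, Derivation.leibniz, derivation_pow_char p D, smul_zero, add_zero,
        show D (H j) = D f * H (j + 1) from derivation_descFactorial_sum p D f a j, Derivation.leibniz_pow,
        nsmul_eq_mul] at h1
      simp only [smul_eq_mul] at h1
      rcases Nat.eq_zero_or_pos j with rfl | hj
      · refine ⟨D f * D c, ?_⟩
        simp only [Nat.mul_zero, pow_zero, one_mul, Nat.cast_zero, zero_mul, mul_zero, add_zero, zero_add, Nat.mul_one,
          Nat.zero_add, Nat.reduceMul] at h1 ⊢
        linear_combination (D f) * h1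
      · obtain ⟨k, hk⟩ : ∃ k, 2 * j = k + 1 := ⟨2 * j - 1, by omega⟩
        rw [hk, Nat.add_sub_cancel] at h1
        rw [hk] at hc
        refine ⟨D f * D c - ((k + 1 : ℕ) : C) * D (D f) * c, ?_⟩
        rw [show 2 * (j + 1) = k + 1 + 2 by omega]
        linear_combination (D f) * h1 - (((k + 1 : ℕ) : C) * D (D f)) * hc
  suffices key : ∀ d i, i + d + 1 = p → b ^ p ∣ D f ^ (2 * p) * a i ^ p from
    fun i hi => key (p - i - 1) i (by omega)
  intro d
  induction d using Nat.strong_induction_on with
  | _ d ih =>
  intro i hi
  have h1 : b ^ p ∣ D f ^ (2 * p) * H i := by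
    rw [show 2 * p = 2 * (p - i) + 2 * i by omega, pow_add, mul_assoc]
    exact Dvd.dvd.mul_left (hH i) _
  rw [Finset.mul_sum] at h1
  have h2 : b ^ p ∣ D f ^ (2 * p) * ((i.descFactorial i : C) * a i ^ p * f ^ (i - i)) := by
    rw [← Finset.add_sum_erase _ _ (Finset.mem_range.2 (show i < p by omega))] at h1
    refine (dvd_add_left (Finset.dvd_sum fun k hk => ?_)).1 h1
    obtain ⟨hki, hk⟩ := Finset.mem_erase.1 hk
    rcases lt_or_gt_of_ne hki with hlt | hgt
    · rw [Nat.descFactorial_eq_zero_iff_lt.2 hlt, Nat.cast_zero, zero_mul, zero_mul, mul_zero]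
      exact dvd_zero _
    · have h := ih (p - k - 1) (by rw [Finset.mem_range] at hk; omega) k (by rw [Finset.mem_range] at hk; omega)
      rw [show D f ^ (2 * p) * ((k.descFactorial i : C) * a k ^ p * f ^ (k - i)) =
        (D f ^ (2 * p) * a k ^ p) * ((k.descFactorial i : C) * f ^ (k - i)) by ring]
      exact h.mul_right _
  rw [Nat.descFactorial_self, Nat.sub_self, pow_zero, mul_one, mul_left_comm] at h2
  have hu : IsUnit (i.factorial : C) := by
    rw [CharP.isUnit_natCast_iff hp.out]
    exact fun hd => absurd ((Nat.Prime.dvd_factorial hp.out).1 hd) (by omega)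
  exact hu.dvd_mul_left.1 h2

/-- Finiteness of integral closures passes along adjunction of a `p`-th root. -/
theorem finite_integralClosure_step (P : Type u) [CommRing P] [IsDomain P] [IsLocalRing P] [IsNoetherianRing P]
    [IsAdicComplete (maximalIdeal P) P]
    (M : Type u) [Field M] [Algebra P M]
    (C : Type u) [CommRing C] [IsDomain C] [Algebra P C] [Algebra C M] [IsScalarTower P C M] [IsFractionRing C M]
    [IsIntegrallyClosed C] [Module.Finite P C] (hC : ∀ m : M, IsIntegral P m → ∃ w : C, algebraMap C M w = m)
    (L : Type u) [Field L] [Algebra M L] [Algebra P L] [IsScalarTower P M L]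
    (p : ℕ) [Fact p.Prime] [CharP M p] [CharP L p] (y : L) (hy : y ∉ (algebraMap M L).range)
    (hyp : y ^ p ∈ (algebraMap M L).range) (htop : Algebra.adjoin M {y} = ⊤) :
    Module.Finite P (integralClosure P L) := by
  obtain ⟨_, hcompl⟩ := completeLocal_of_finite P C
  haveI := hcompl
  haveI : IsNoetherianRing C := IsNoetherianRing.of_finite P C
  haveI : CharP C p := RingHom.charP (algebraMap C M) (IsFractionRing.injective C M) p
  obtain ⟨y', f, hy', hy'M, htop'⟩ := exists_scaled_root C M L p (Fact.out : p.Prime).pos y hy hyp htop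
  letI : Algebra C L := ((algebraMap M L).comp (algebraMap C M)).toAlgebra
  haveI : IsScalarTower C M L := .of_algebraMap_eq fun _ => rfl
  haveI : IsScalarTower P C L := .of_algebraMap_eq fun x => by
    show _ = algebraMap M L (algebraMap C M (algebraMap P C x))
    rw [← IsScalarTower.algebraMap_apply P C M, ← IsScalarTower.algebraMap_apply P M L]
  have hfM := not_pow_of_root (M := M) p f y' hy' hy'M
  obtain ⟨D, hD⟩ := exists_derivation_of_not_pow C M p f hfM
  let c : L := algebraMap C L (D f ^ 2)
  have hc : c ≠ 0 := by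
    simp only [c, IsScalarTower.algebraMap_apply C M L]
    exact (_root_.map_ne_zero _).2 ((map_ne_zero_iff _ (IsFractionRing.injective C M)).2 (pow_ne_zero _ hD))
  let N : Submodule P L := (Submodule.span C (Set.range fun i : Fin p => y' ^ (i : ℕ))).restrictScalars P
  haveI : Module.Finite P N := by
    haveI : Module.Finite C (Submodule.span C (Set.range fun i : Fin p => y' ^ (i : ℕ))) :=
      Module.Finite.span_of_finite C (Set.finite_range _)
    haveI : Module.Finite P (Submodule.span C (Set.range fun i : Fin p => y' ^ (i : ℕ))) := Module.Finite.trans C _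
    exact this
  have hmem : ∀ z : L, IsIntegral P z → c * z ∈ N := by
    intro z hz
    classical
    have hmon : (Polynomial.X ^ p - Polynomial.C (algebraMap C M f)).Monic :=
      Polynomial.monic_X_pow_sub_C _ (Fact.out : p.Prime).ne_zero
    obtain ⟨g₀, rfl⟩ : ∃ g₀ : Polynomial M, Polynomial.aeval y' g₀ = z := by
      have : z ∈ Algebra.adjoin M {y'} := htop' ▸ trivial
      rwa [Algebra.adjoin_singleton_eq_range_aeval] at this
    set g := g₀ %ₘ (Polynomial.X ^ p - Polynomial.C (algebraMap C M f)) with hg
    have hgd : g.natDegree < p := by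
      have := Polynomial.natDegree_modByMonic_lt g₀ hmon (fun h => by
        have := congrArg Polynomial.natDegree h
        rw [Polynomial.natDegree_X_pow_sub_C, Polynomial.natDegree_one] at this
        exact (Fact.out : p.Prime).ne_zero this)
      rwa [Polynomial.natDegree_X_pow_sub_C] at this
    have hev : Polynomial.aeval y' g₀ = Polynomial.aeval y' g := by
      conv_lhs => rw [← Polynomial.modByMonic_add_div g₀ (Polynomial.X ^ p - Polynomial.C (algebraMap C M f))]
      rw [map_add, map_mul, map_sub, map_pow, Polynomial.aeval_X, Polynomial.aeval_C, hy', sub_self, zero_mul, add_zero]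
    rw [hev, Polynomial.aeval_eq_sum_range' hgd] at hz ⊢
    obtain ⟨b, hb⟩ := IsLocalization.exist_integer_multiples_of_finset (nonZeroDivisors C)
      ((Finset.range p).image g.coeff)
    have hb' : ∀ i : ℕ, ∃ a : C, i < p → algebraMap C M a = algebraMap C M (b : C) * g.coeff i := fun i => by
      by_cases hi : i < p
      · obtain ⟨a, ha⟩ := hb (g.coeff i) (Finset.mem_image_of_mem _ (Finset.mem_range.2 hi))
        exact ⟨a, fun _ => by rw [ha, Algebra.smul_def]⟩
      · exact ⟨0, fun h => absurd h hi⟩
    choose a ha using hb'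
    have hzp : (∑ i ∈ Finset.range p, g.coeff i • y' ^ i) ^ p =
        algebraMap M L (∑ i ∈ Finset.range p, g.coeff i ^ p * algebraMap C M f ^ i) := by
      rw [sum_pow_char, map_sum]
      refine Finset.sum_congr rfl fun i _ => ?_
      rw [Algebra.smul_def, mul_pow, map_mul, map_pow, map_pow, ← pow_mul, mul_comm i p, pow_mul, hy']
    obtain ⟨w, hw⟩ : ∃ w : C, algebraMap C M w = ∑ i ∈ Finset.range p, g.coeff i ^ p * algebraMap C M f ^ i := by
      have h1 : IsIntegral P (∑ i ∈ Finset.range p, g.coeff i ^ p * algebraMap C M f ^ i) :=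
        (isIntegral_algebraMap_iff (algebraMap M L).injective).1 (hzp ▸ hz.pow p)
      exact hC _ h1
    have hdvd : (b : C) ^ p ∣ ∑ i ∈ Finset.range p, a i ^ p * f ^ i := ⟨w, IsFractionRing.injective C M (by
      rw [map_mul, map_pow, hw, map_sum, Finset.mul_sum]
      refine Finset.sum_congr rfl fun i hi => ?_
      rw [map_mul, map_pow, map_pow, ha i (Finset.mem_range.1 hi), mul_pow, mul_assoc])⟩
    rw [Finset.mul_sum]
    refine sum_mem fun i hi => ?_
    obtain ⟨v, hv⟩ := coeff_dvd_of_derivation p D f a b hdvd i (Finset.mem_range.1 hi)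
    have hb0 : algebraMap C M (b : C) ≠ 0 :=
      (map_ne_zero_iff _ (IsFractionRing.injective C M)).2 (nonZeroDivisors.coe_ne_zero b)
    obtain ⟨u, hu⟩ : ∃ u : C, algebraMap C M u = algebraMap C M (D f ^ 2) * g.coeff i := by
      refine IsIntegrallyClosed.algebraMap_eq_of_integral (IsIntegral.of_pow (Fact.out : p.Prime).pos ?_)
      have : (algebraMap C M (D f ^ 2) * g.coeff i) ^ p = algebraMap C M v := by
        refine mul_left_cancel₀ (pow_ne_zero p hb0) ?_
        rw [← mul_pow, mul_left_comm, ← ha i (Finset.mem_range.1 hi), ← map_mul (algebraMap C M),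
          ← map_pow (algebraMap C M), ← map_pow (algebraMap C M), ← map_mul (algebraMap C M), mul_pow, ← pow_mul, hv]
      rw [this]
      exact isIntegral_algebraMap
    have : c * (g.coeff i • y' ^ i) = u • y' ^ i := by
      rw [Algebra.smul_def, Algebra.smul_def, IsScalarTower.algebraMap_apply C M L u, hu, map_mul, ← mul_assoc]
      rfl
    rw [this]
    exact Submodule.smul_mem _ u (Submodule.subset_span ⟨⟨i, Finset.mem_range.1 hi⟩, rfl⟩)
  let φ : integralClosure P L →ₗ[P] N :=
    ((LinearMap.mulLeft P c).comp (integralClosure P L).val.toLinearMap).codRestrict N fun z => hmem _ z.2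
  exact Module.Finite.of_injective φ fun z w h => Subtype.ext (mul_left_cancel₀ hc (congrArg Subtype.val h :))

/-- Over a complete regular local base, integral closures in finite extensions are finite. -/
theorem finite_integralClosure_regular (P : Type u) [CommRing P] [IsRegularLocalRing P]
    [IsAdicComplete (maximalIdeal P) P] (K : Type u) [Field K] [Algebra P K] [IsFractionRing P K] :
    ∀ (L : Type u) [Field L] [Algebra K L] [FiniteDimensional K L] [Algebra P L] [IsScalarTower P K L],
      Module.Finite P (integralClosure P L) := by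
  haveI := RegLoc.isDomain P
  haveI := RegLoc.ufd_of_isRegularLocalRing P
  refine tower_induction K (fun L _ _ => ∀ [Algebra P L] [IsScalarTower P K L], Module.Finite P (integralClosure P L))
    ?_ ?_
  · intro L _ _ _ _ _ _
    exact IsIntegralClosure.finite P K L _
  · intro L _ _ _ p _ _ M y hyM hyp htop hM _ _
    letI : Algebra P M := ((algebraMap K M).comp (algebraMap P K)).toAlgebra
    haveI : IsScalarTower P K M := .of_algebraMap_eq fun _ => rfl
    haveI : IsScalarTower P M L := .of_algebraMap_eq fun x => IsScalarTower.algebraMap_apply P K L x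
    haveI : CharP L p := charP_of_injective_algebraMap (algebraMap K L).injective p
    haveI : CharP M p := charP_of_injective_algebraMap (algebraMap K M).injective p
    haveI := @hM _ _
    haveI : IsFractionRing (integralClosure P M) M := integralClosure.isFractionRing_of_finite_extension K M
    haveI : IsIntegrallyClosed (integralClosure P M) := integralClosure.isIntegrallyClosedOfFiniteExtension K
    exact finite_integralClosure_step P M (integralClosure P M) (fun m hm => ⟨⟨m, hm⟩, rfl⟩) L p y
      (fun ⟨m, hm⟩ => hyM (hm ▸ m.2)) ⟨⟨_, hyp⟩, rfl⟩ htop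

/-- A complete Noetherian local domain is Japanese. -/
theorem isN2_of_complete (A : Type u) [CommRing A] [IsDomain A] [IsLocalRing A] [IsNoetherianRing A]
    [IsAdicComplete (maximalIdeal A) A] : CAlg.IsN2 A := by
  intro L _ _ _ _ hfinL
  haveI := hfinL
  obtain ⟨Λ, i1, n, φ, hΛ, hinj, hfin, -⟩ := exists_finite_injective A
  suffices key : ∀ [IsRegularLocalRing Λ] [IsAdicComplete (maximalIdeal Λ) Λ],
      Module.Finite A (integralClosure A L) by
    rcases hΛ with hF | ⟨hcoh, -⟩
    · letI := hF.toField
      haveI : IsAdicComplete (maximalIdeal Λ) Λ := by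
        rw [show maximalIdeal Λ = ⊥ from IsLocalRing.maximalIdeal_eq_bot]; infer_instance
      exact key
    · obtain ⟨_, _, hc, -⟩ := hcoh
      haveI := hc
      exact key
  intro _ _
  haveI := Cohen.isRegularLocalRing_mvPowerSeries Λ n
  haveI := RegLoc.isDomain (MvPowerSeries (Fin n) Λ)
  haveI : IsAdicComplete (maximalIdeal (MvPowerSeries (Fin n) Λ)) (MvPowerSeries (Fin n) Λ) :=
    ArtFunLib.isAdicComplete_mvPowerSeries
  letI := φ.toAlgebra
  haveI : Module.Finite (MvPowerSeries (Fin n) Λ) A := RingHom.finite_algebraMap.1 hfin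
  let P := MvPowerSeries (Fin n) Λ
  let K := FractionRing P
  let F := FractionRing A
  haveI : FaithfulSMul P A := (faithfulSMul_iff_algebraMap_injective _ _).mpr hinj
  letI : Algebra P L := ((algebraMap A L).comp (algebraMap P A)).toAlgebra
  haveI : IsScalarTower P A L := .of_algebraMap_eq fun _ => rfl
  haveI : IsScalarTower P F L := .of_algebraMap_eq fun x => by
    rw [IsScalarTower.algebraMap_apply P A F, ← IsScalarTower.algebraMap_apply A F L]; rfl
  haveI : FaithfulSMul P F := (faithfulSMul_iff_algebraMap_injective _ _).mpr (by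
    rw [IsScalarTower.algebraMap_eq P A F]; exact (IsFractionRing.injective A F).comp hinj)
  haveI : FaithfulSMul P L := (faithfulSMul_iff_algebraMap_injective _ _).mpr (by
    rw [IsScalarTower.algebraMap_eq P F L]; exact (algebraMap F L).injective.comp (FaithfulSMul.algebraMap_injective P F))
  letI := FractionRing.liftAlgebra P F
  letI := FractionRing.liftAlgebra P L
  haveI : FiniteDimensional K F := Module.Finite.of_isLocalization P A (nonZeroDivisors P)
  haveI : IsScalarTower K F L := .of_algebraMap_eq' (IsLocalization.ringHom_ext (nonZeroDivisors P) (by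
    rw [RingHom.comp_assoc, ← IsScalarTower.algebraMap_eq P K F, ← IsScalarTower.algebraMap_eq P K L,
      ← IsScalarTower.algebraMap_eq P F L]))
  haveI : FiniteDimensional K L := Module.Finite.trans F L
  haveI := finite_integralClosure_regular P K L
  haveI : Algebra.IsIntegral P A := Algebra.IsIntegral.of_finite P A
  let ψ : integralClosure P L →ₗ[P] integralClosure A L :=
    { toFun := fun z => ⟨z.1, z.2.tower_top⟩
      map_add' := fun _ _ => rfl
      map_smul' := fun _ _ => rfl }
  have hψ : Function.Surjective ψ := fun z => ⟨⟨z.1, isIntegral_trans _ z.2⟩, rfl⟩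
  haveI : Module.Finite P (integralClosure A L) := Module.Finite.of_surjective ψ hψ
  exact Module.Finite.of_restrictScalars_finite P A _

/-- A complete Noetherian local ring is Nagata. -/
theorem isNagata_of_complete (R : Type u) [CommRing R] [IsLocalRing R] [IsNoetherianRing R]
    [IsAdicComplete (maximalIdeal R) R] : CAlg.IsNagata R := by
  refine ⟨inferInstance, fun q _ => ?_⟩
  obtain ⟨_, hc⟩ := completeLocal_of_finite R (R ⧸ q)
  haveI := hc
  exact isN2_of_complete (R ⧸ q)

end Groth.Agent.CplDomain
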