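import Groth.Agent.Lib.CplDomain.Tower
import Groth.Agent.Lib.CplDomain.Deriv
import Groth.Agent.Lib.CplDomain.Normalization
import Groth.Agent.Lib.FlatDepth.J2Apps
import Groth.Agent.Lib.RegLoc.GlobalDim
import Groth.Agent.Lib.Cohen.Structure
import Mathlib

/-! # Complete local rings are J-2 -/

set_option autoImplicit false
universe u

open IsLocalRing

namespace Groth.Agent.CplDomain

/-- Regularity spreads along adjunction of a `p`-th root to a complete local domain. -/
theorem rootExt_regLocus_open (C : Type u) [CommRing C] [IsDomain C] [IsLocalRing C] [IsNoetherianRing C]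
    [IsAdicComplete (maximalIdeal C) C] (p : ℕ) [Fact p.Prime] [CharP C p] (f : C) [IsDomain (RootExt C p f)]
    (hinj : Function.Injective (algebraMap C (RootExt C p f)))
    (M : Type u) [Field M] [Algebra C M] [IsFractionRing C M] (hf : ∀ z : M, z ^ p ≠ algebraMap C M f)
    (h : ∃ U : Set (PrimeSpectrum C), IsOpen U ∧ U.Nonempty ∧ U ⊆ EGA4.regLocus C) :
    ∃ U : Set (PrimeSpectrum (RootExt C p f)), IsOpen U ∧ U.Nonempty ∧ U ⊆ EGA4.regLocus (RootExt C p f) := by
  obtain ⟨D, hD⟩ := exists_derivation_of_not_pow C M p f hf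
  obtain ⟨U, hU, ⟨u, hu⟩, hsub⟩ := h
  refine ⟨PrimeSpectrum.comap (algebraMap C (RootExt C p f)) ⁻¹' U ∩
    PrimeSpectrum.basicOpen (algebraMap C (RootExt C p f) (D f)),
    (hU.preimage (by fun_prop)).inter (PrimeSpectrum.basicOpen _).isOpen,
    ⟨⟨⊥, Ideal.isPrime_bot⟩, ?_, by simpa [PrimeSpectrum.mem_basicOpen] using (map_ne_zero_iff _ hinj).mpr hD⟩, ?_⟩
  · refine hU.stableUnderGeneralization ?_ hu
    rw [← PrimeSpectrum.le_iff_specializes, ← PrimeSpectrum.asIdeal_le_asIdeal]
    show Ideal.comap (algebraMap C (RootExt C p f)) ⊥ ≤ _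
    rw [← RingHom.ker_eq_comap_bot, (RingHom.injective_iff_ker_eq_bot _).1 hinj]
    exact bot_le
  · rintro Q ⟨hQ1, hQ2⟩
    haveI : IsRegularLocalRing (Localization.AtPrime (Q.asIdeal.comap (algebraMap C (RootExt C p f)))) := hsub hQ1
    exact regular_rootExt_at p f D Q.asIdeal hQ2

/-- Over a complete local domain with generically regular spectrum, all finite domains are generically regular. -/
theorem genOpen_reg (P : Type u) [CommRing P] [IsDomain P] [IsLocalRing P] [IsNoetherianRing P]
    [IsAdicComplete (maximalIdeal P) P] (K : Type u) [Field K] [Algebra P K] [IsFractionRing P K]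
    (hP : ∃ U : Set (PrimeSpectrum P), IsOpen U ∧ U.Nonempty ∧ U ⊆ EGA4.regLocus P) :
    ∀ (L : Type u) [Field L] [Algebra K L] [FiniteDimensional K L], GenOpen P K FlatDepth.regGood L := by
  refine tower_induction K (fun L _ _ => GenOpen P K FlatDepth.regGood L)
    (fun L _ _ _ _ => genOpen_of_separable P K FlatDepth.regGood hP L) ?_
  intro L _ _ _ p _ _ M y hyM hyp htop hM _ _ A _ _ _ _ _ _ _
  letI : Algebra P M := ((algebraMap K M).comp (algebraMap P K)).toAlgebra
  haveI : IsScalarTower P K M := .of_algebraMap_eq fun _ => rfl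
  obtain ⟨C, _, _, _, _, _, hfin, hfrac⟩ := FlatDepth.exists_finite_fractionRing P K M
  haveI := hfin
  haveI := hfrac
  have hC := hM C
  obtain ⟨_, hcompl⟩ := completeLocal_of_finite P C
  haveI := hcompl
  haveI : IsNoetherianRing C := IsNoetherianRing.of_finite P C
  have hmem : ∀ x : L, x ∈ (algebraMap M L).range ↔ x ∈ M :=
    fun x => ⟨fun ⟨m, hm⟩ => hm ▸ m.2, fun hx => ⟨⟨x, hx⟩, rfl⟩⟩
  obtain ⟨y', f, hy', hy'M, htop'⟩ := exists_scaled_root C M L p (Fact.out : p.Prime).pos y
    (fun h => hyM ((hmem y).1 h)) ((hmem _).2 hyp) htop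
  letI : Algebra C L := ((algebraMap M L).comp (algebraMap C M)).toAlgebra
  haveI : IsScalarTower C M L := .of_algebraMap_eq fun _ => rfl
  haveI : CharP L p := charP_of_injective_algebraMap (algebraMap K L).injective p
  haveI : CharP M p := charP_of_injective_algebraMap (algebraMap K M).injective p
  haveI : CharP C p := RingHom.charP (algebraMap C M) (IsFractionRing.injective C M) p
  obtain ⟨hdom, hfrac'⟩ := isFractionRing_rootExt (M := M) p f y' hy' hy'M htop'
  have hinj : Function.Injective (algebraMap C (RootExt C p f)) := fun a b h => by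
    have := congrArg (rootHom p f y' hy') h
    rw [AlgHom.commutes, AlgHom.commutes] at this
    exact IsFractionRing.injective C M ((algebraMap M L).injective this)
  letI := (rootHom p f y' hy').toRingHom.toAlgebra
  haveI := hfrac'
  haveI : IsScalarTower P (RootExt C p f) L := .of_algebraMap_eq fun x => by
    show _ = rootHom p f y' hy' (algebraMap P (RootExt C p f) x)
    rw [IsScalarTower.algebraMap_apply P C (RootExt C p f), AlgHom.commutes]
    show algebraMap P L x = algebraMap M L (algebraMap C M (algebraMap P C x))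
    rw [← IsScalarTower.algebraMap_apply P C M, IsScalarTower.algebraMap_apply P K L]
    rfl
  haveI : Module.Finite C (RootExt C p f) :=
    (Polynomial.monic_X_pow_sub_C f (Fact.out : p.Prime).ne_zero).finite_adjoinRoot
  haveI : Module.Finite P (RootExt C p f) := Module.Finite.trans C (RootExt C p f)
  exact open_transfer P FlatDepth.regGood L (RootExt C p f)
    (rootExt_regLocus_open C p f hinj M (not_pow_of_root p f y' hy' hy'M) hC) A

/-- The regular locus of a complete local domain contains a nonempty open set. -/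
theorem regLocus_open_of_complete_domain (A : Type u) [CommRing A] [IsDomain A] [IsLocalRing A] [IsNoetherianRing A]
    [IsAdicComplete (maximalIdeal A) A] :
    ∃ U : Set (PrimeSpectrum A), IsOpen U ∧ U.Nonempty ∧ U ⊆ EGA4.regLocus A := by
  obtain ⟨Λ, i1, n, φ, hΛ, hinj, hfin, -⟩ := exists_finite_injective A
  suffices key : ∀ [IsRegularLocalRing Λ] [IsAdicComplete (maximalIdeal Λ) Λ],
      ∃ U : Set (PrimeSpectrum A), IsOpen U ∧ U.Nonempty ∧ U ⊆ EGA4.regLocus A by
    rcases hΛ with hF | ⟨hcoh, -⟩
    · letI := hF.toField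
      haveI : IsAdicComplete (maximalIdeal Λ) Λ := by
        rw [show maximalIdeal Λ = ⊥ from IsLocalRing.maximalIdeal_eq_bot]; infer_instance
      exact key
    · obtain ⟨_, _, hc, -⟩ := hcoh
      haveI := hc
      exact key
  intro _ _
  haveI := Cohen.isRegularLocalRing_mvPowerSeries Λ n
  haveI := RegLoc.isDomain (MvPowerSeries (Fin n) Λ)
  haveI : IsAdicComplete (maximalIdeal (MvPowerSeries (Fin n) Λ)) (MvPowerSeries (Fin n) Λ) := ArtFunLib.isAdicComplete_mvPowerSeries
  letI := φ.toAlgebra
  haveI : Module.Finite (MvPowerSeries (Fin n) Λ) A := RingHom.finite_algebraMap.1 hfin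
  let P := MvPowerSeries (Fin n) Λ
  let K := FractionRing P
  let L := FractionRing A
  haveI : FaithfulSMul P A := (faithfulSMul_iff_algebraMap_injective _ _).mpr hinj
  haveI : FaithfulSMul P L := (faithfulSMul_iff_algebraMap_injective _ _).mpr (by
    rw [IsScalarTower.algebraMap_eq P A L]; exact (IsFractionRing.injective A L).comp hinj)
  letI := FractionRing.liftAlgebra P L
  haveI : FiniteDimensional K L := Module.Finite.of_isLocalization P A (nonZeroDivisors P)
  exact genOpen_reg P K ⟨Set.univ, isOpen_univ, ⟨⟨⊥, Ideal.isPrime_bot⟩, trivial⟩,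
    fun q _ => RegLoc.isRegularLocalRing_localization P q.asIdeal⟩ L A

/-- A complete Noetherian local ring is J-2. -/
theorem isJ2_of_complete (A : Type u) [CommRing A] [IsNoetherianRing A] [IsLocalRing A]
    [IsAdicComplete (maximalIdeal A) A] : EGA4.IsJ2 A := by
  refine FlatDepth.isJ2_of_finite_domains A fun A' _ _ _ hfin => ?_
  haveI := hfin
  obtain ⟨_, hc⟩ := completeLocal_of_finite A A'
  haveI := hc
  haveI : IsNoetherianRing A' := IsNoetherianRing.of_finite A A'
  exact regLocus_open_of_complete_domain A'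

end Groth.Agent.CplDomain
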