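import Groth.Agent.Lib.CplDomain.GRegular
import Mathlib

/-! # Formal fibres of a polynomial ring over a regular complete local domain -/

set_option autoImplicit false
universe u

open IsLocalRing TensorProduct Polynomial

namespace Groth.Agent.CplDomain

theorem isRegularRing_cpl_poly (P : Type u) [CommRing P] [IsRegularLocalRing P] (n : Ideal (Polynomial P)) [n.IsPrime] :
    IsRegularRing (EGA4.Cpl (Localization.AtPrime n)) := by
  haveI : IsRegularLocalRing (Localization.AtPrime (n.comap (algebraMap P (Polynomial P)))) :=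
    RegLoc.isRegularLocalRing_localization P _
  haveI : Algebra.Smooth P (Polynomial P) := ⟨inferInstance, inferInstance⟩
  haveI : IsRegularLocalRing (Localization.AtPrime n) := FlatDepth.regular_of_smooth (A := P) n
  haveI : IsRegularLocalRing (EGA4.Cpl (Localization.AtPrime n)) :=
    (Compl.isRegularLocalRing_adicCompletion_iff (Localization.AtPrime n)).mp inferInstance
  exact isRegularRing_of_regularLocal _

/-- Transport of a derivation along ring maps. -/
theorem exists_derivation_transport {Q C N : Type u} [CommRing Q] [CommRing C] [CommRing N] [Algebra Q N]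
    (ψ : Q →+* C) (D : Derivation ℤ C C) (φ : C →+* N) (h : ∀ a, φ (ψ a) = algebraMap Q N a) :
    ∃ d : Derivation ℤ Q N, ∀ a, d a = φ (D (ψ a)) :=
  ⟨{ toFun := fun a => φ (D (ψ a))
     map_add' := fun a b => by rw [map_add, map_add, map_add]
     map_smul' := fun z a => by rw [RingHom.id_apply, map_zsmul, map_zsmul, map_zsmul]
     map_one_eq_zero' := by show φ (D (ψ 1)) = 0; rw [map_one, D.map_one_eq_zero, map_zero]
     leibniz' := fun a b => by
       show φ (D (ψ (a * b))) = _
       rw [map_mul, D.leibniz, map_add, smul_eq_mul, smul_eq_mul, map_mul, map_mul, h, h, Algebra.smul_def,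
         Algebra.smul_def]
       rfl }, fun _ => rfl⟩

theorem hasExt_poly (P : Type u) [CommRing P] [IsNoetherianRing P] (n : Ideal (Polynomial P)) [n.IsPrime] :
    HasExt P (EGA4.Cpl (Localization.AtPrime n)) := by
  intro C _ _ _ D
  let T := EGA4.Cpl (Localization.AtPrime n)
  letI : Differential C := ⟨D⟩
  let φ : Polynomial C →+* T ⊗[P] C := eval₂RingHom (Algebra.TensorProduct.includeRight : C →ₐ[P] T ⊗[P] C).toRingHom
    (algebraMap (Polynomial P) T X ⊗ₜ[P] (1 : C))
  have hφ : ∀ f : Polynomial P, φ (f.map (algebraMap P C)) = algebraMap (Polynomial P) (T ⊗[P] C) f := by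
    suffices h : φ.comp (mapRingHom (algebraMap P C)) = algebraMap (Polynomial P) (T ⊗[P] C) from
      fun f => RingHom.congr_fun h f
    refine Polynomial.ringHom_ext' (RingHom.ext fun a => ?_) ?_
    · simp only [RingHom.comp_apply, coe_mapRingHom, map_C, φ, coe_eval₂RingHom, eval₂_C]
      show (1 : T) ⊗ₜ[P] algebraMap P C a = algebraMap (Polynomial P) T (Polynomial.C a) ⊗ₜ[P] (1 : C)
      rw [Algebra.algebraMap_eq_smul_one a, tmul_smul, smul_tmul', ← Algebra.algebraMap_eq_smul_one,
        IsScalarTower.algebraMap_apply P (Polynomial P) T a]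
      rfl
    · simp only [RingHom.comp_apply, coe_mapRingHom, map_X, φ, coe_eval₂RingHom, eval₂_X]
      rfl
  obtain ⟨d₀, hd₀⟩ := exists_derivation_transport (mapRingHom (algebraMap P C)) Differential.mapCoeffs φ hφ
  obtain ⟨d, hd⟩ := exists_derivation_cpl_atPrime n d₀
  refine ⟨d, fun a => ?_⟩
  rw [IsScalarTower.algebraMap_apply P (Polynomial P) T, hd]
  show d₀ (Polynomial.C a) = _
  rw [hd₀, coe_mapRingHom, map_C]
  refine (congrArg φ (Differential.mapCoeffs_C _)).trans ?_
  simp only [φ, coe_eval₂RingHom, eval₂_C]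
  rfl

/-- Tensoring a finite extension with a completed polynomial ring. -/
theorem regular_poly_finite (P : Type u) [CommRing P] [IsRegularLocalRing P] [IsAdicComplete (maximalIdeal P) P]
    (n : Ideal (Polynomial P)) [n.IsPrime] (K : Type u) [Field K] [Algebra P K] [IsFractionRing P K]
    (L : Type u) [Field L] [Algebra K L] [FiniteDimensional K L] [Algebra P L] [IsScalarTower P K L] :
    IsRegularRing (L ⊗[P] EGA4.Cpl (Localization.AtPrime n)) :=
  haveI := isRegularRing_cpl_poly P n
  regular_tensor_tower P (EGA4.Cpl (Localization.AtPrime n)) (hasExt_poly P n) K L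

/-- The derivative extends to the completed polynomial ring, linearly in the coefficients. -/
theorem exists_dX (P : Type u) [CommRing P] [IsNoetherianRing P] (n : Ideal (Polynomial P)) [n.IsPrime]
    (M : Type u) [CommRing M] [Algebra P M] :
    ∃ Δ : @Derivation ℤ (EGA4.Cpl (Localization.AtPrime n) ⊗[P] M) (EGA4.Cpl (Localization.AtPrime n) ⊗[P] M) _ _ _
      (Ring.toIntAlgebra _) _ _,
      (∀ m : M, Δ (1 ⊗ₜ[P] m) = 0) ∧
      Δ (algebraMap (Polynomial P) (EGA4.Cpl (Localization.AtPrime n)) X ⊗ₜ[P] (1 : M)) = 1 := by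
  let T := EGA4.Cpl (Localization.AtPrime n)
  let d₀ : Derivation ℤ (Polynomial P) T :=
    { toFun := fun f => algebraMap (Polynomial P) T (derivative f)
      map_add' := fun a b => by rw [map_add, map_add]
      map_smul' := fun z a => by rw [RingHom.id_apply, map_zsmul, map_zsmul]
      map_one_eq_zero' := by show algebraMap (Polynomial P) T (derivative 1) = 0; rw [derivative_one, map_zero]
      leibniz' := fun a b => by
        show algebraMap (Polynomial P) T (derivative (a * b)) = _
        rw [derivative_mul, map_add, map_mul, map_mul, ← algebraMap_smul T a, ← algebraMap_smul T b, smul_eq_mul,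
          smul_eq_mul, add_comm]
        show algebraMap _ T a * algebraMap _ T (derivative b) + algebraMap _ T (derivative a) * algebraMap _ T b =
          algebraMap _ T a * algebraMap _ T (derivative b) + algebraMap _ T b * algebraMap _ T (derivative a)
        ring }
  obtain ⟨d, hd⟩ := exists_derivation_cpl_atPrime n d₀
  obtain ⟨d', hd'⟩ := exists_comp_derivation (Algebra.linearMap T (T ⊗[P] M)) d
  obtain ⟨Δ, hΔ1, hΔ2⟩ := exists_derivation_tensor' (0 : Derivation ℤ M M) d' fun a => by
    rw [hd', IsScalarTower.algebraMap_apply P (Polynomial P) T, hd, Derivation.zero_apply, tmul_zero]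
    show algebraMap T (T ⊗[P] M) (algebraMap (Polynomial P) T (derivative (Polynomial.C a))) = 0
    rw [derivative_C, map_zero, map_zero]
  obtain ⟨Δ', hΔ'⟩ := exists_intDerivation Δ
  refine ⟨Δ', fun m => by rw [hΔ', hΔ1, Derivation.zero_apply, tmul_zero], ?_⟩
  rw [hΔ', hΔ2, hd', hd]
  show algebraMap T (T ⊗[P] M) (algebraMap (Polynomial P) T (derivative X)) = 1
  rw [derivative_X, map_one, map_one]

/-- Base change of a polynomial algebra over `X ↦ Y ^ q`. -/
theorem nonempty_polyRoot_equiv {P T M : Type u} [CommRing P] [CommRing T] [CommRing M] [Algebra P M]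
    [Algebra (Polynomial P) T] [Algebra P T] [IsScalarTower P (Polynomial P) T] (q : ℕ)
    [Algebra (Polynomial P) (Polynomial M)] [IsScalarTower P (Polynomial P) (Polynomial M)]
    (hX : algebraMap (Polynomial P) (Polynomial M) X = X ^ q) :
    Nonempty (RootExt (T ⊗[P] M) q (algebraMap (Polynomial P) T X ⊗ₜ[P] (1 : M)) ≃+*
      Polynomial M ⊗[Polynomial P] T) := by
  let fR : T ⊗[P] M := algebraMap (Polynomial P) T X ⊗ₜ[P] (1 : M)
  let of' := AdjoinRoot.of (X ^ q - Polynomial.C fR : (T ⊗[P] M)[X])
  let a : Polynomial M →+* RootExt (T ⊗[P] M) q fR :=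
    eval₂RingHom (of'.comp (Algebra.TensorProduct.includeRight : M →ₐ[P] T ⊗[P] M).toRingHom) (AdjoinRoot.root _)
  let b : T →+* RootExt (T ⊗[P] M) q fR := of'.comp (Algebra.TensorProduct.includeLeftRingHom : T →+* T ⊗[P] M)
  have hroot : (AdjoinRoot.root (X ^ q - Polynomial.C fR : (T ⊗[P] M)[X])) ^ q = of' fR := by
    have h := AdjoinRoot.eval₂_root (X ^ q - Polynomial.C fR : (T ⊗[P] M)[X])
    rw [eval₂_sub, eval₂_pow, eval₂_X, eval₂_C] at h
    exact sub_eq_zero.1 h
  have hab : a.comp (algebraMap (Polynomial P) (Polynomial M)) = b.comp (algebraMap (Polynomial P) T) := by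
    refine Polynomial.ringHom_ext' (RingHom.ext fun r => ?_) ?_
    · show a (algebraMap (Polynomial P) (Polynomial M) (algebraMap P (Polynomial P) r)) =
        b (algebraMap (Polynomial P) T (algebraMap P (Polynomial P) r))
      rw [← IsScalarTower.algebraMap_apply, ← IsScalarTower.algebraMap_apply, IsScalarTower.algebraMap_apply P M (Polynomial M)]
      show a (Polynomial.C (algebraMap P M r)) = _
      simp only [a, coe_eval₂RingHom, eval₂_C]
      show of' ((1 : T) ⊗ₜ[P] algebraMap P M r) = of' (algebraMap P T r ⊗ₜ[P] (1 : M))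
      rw [Algebra.algebraMap_eq_smul_one r, tmul_smul, smul_tmul', ← Algebra.algebraMap_eq_smul_one]
    · show a (algebraMap (Polynomial P) (Polynomial M) X) = b (algebraMap (Polynomial P) T X)
      rw [hX, map_pow]
      simp only [a, coe_eval₂RingHom, eval₂_X]
      exact hroot
  let a' : Polynomial M →ₐ[Polynomial P] RootExt (T ⊗[P] M) q fR := ⟨a, fun r => (RingHom.congr_fun hab r).trans rfl⟩
  let b' : T →ₐ[Polynomial P] RootExt (T ⊗[P] M) q fR := ⟨b, fun r => rfl⟩
  let ψ : Polynomial M ⊗[Polynomial P] T →ₐ[Polynomial P] RootExt (T ⊗[P] M) q fR :=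
    Algebra.TensorProduct.lift a' b' fun _ _ => Commute.all _ _
  have hψ : ∀ g t, ψ (g ⊗ₜ[Polynomial P] t) = a g * b t := fun g t => Algebra.TensorProduct.lift_tmul ..
  let iT : T →ₐ[P] Polynomial M ⊗[Polynomial P] T :=
    (Algebra.TensorProduct.includeRight : T →ₐ[Polynomial P] Polynomial M ⊗[Polynomial P] T).restrictScalars P
  let iM : M →ₐ[P] Polynomial M ⊗[Polynomial P] T :=
    (Algebra.TensorProduct.includeLeft : Polynomial M →ₐ[P] Polynomial M ⊗[Polynomial P] T).comp
      (IsScalarTower.toAlgHom P M (Polynomial M))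
  let i : T ⊗[P] M →ₐ[P] Polynomial M ⊗[Polynomial P] T := Algebra.TensorProduct.lift iT iM fun _ _ => Commute.all _ _
  have hi : ∀ t m, i (t ⊗ₜ[P] m) = (Polynomial.C m) ⊗ₜ[Polynomial P] t := fun t m => by
    rw [Algebra.TensorProduct.lift_tmul]
    show ((1 : Polynomial M) ⊗ₜ[Polynomial P] t) * (Polynomial.C m ⊗ₜ[Polynomial P] (1 : T)) = _
    rw [Algebra.TensorProduct.tmul_mul_tmul, one_mul, mul_one]
  let φ : RootExt (T ⊗[P] M) q fR →+* Polynomial M ⊗[Polynomial P] T :=
    AdjoinRoot.lift i.toRingHom ((X : Polynomial M) ⊗ₜ[Polynomial P] (1 : T)) (by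
      rw [eval₂_sub, eval₂_pow, eval₂_X, eval₂_C, Algebra.TensorProduct.tmul_pow, one_pow, sub_eq_zero]
      show _ = i (algebraMap (Polynomial P) T X ⊗ₜ[P] (1 : M))
      rw [hi, Polynomial.C_1, Algebra.algebraMap_eq_smul_one, tmul_smul, smul_tmul', Algebra.smul_def, mul_one, hX])
  have hφof : ∀ r, φ (of' r) = i r := fun r => AdjoinRoot.lift_of ..
  have hφroot : φ (AdjoinRoot.root _) = (X : Polynomial M) ⊗ₜ[Polynomial P] (1 : T) := AdjoinRoot.lift_root ..
  refine ⟨RingEquiv.ofRingHom φ ψ.toRingHom ?_ ?_⟩
  · refine RingHom.ext fun x => ?_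
    show φ (ψ x) = x
    induction x using TensorProduct.induction_on with
    | zero => rw [map_zero, map_zero]
    | add u v hu hv => rw [map_add, map_add, hu, hv]
    | tmul g t =>
      have hg : φ (a g) = g ⊗ₜ[Polynomial P] (1 : T) := by
        suffices h : φ.comp a = (Algebra.TensorProduct.includeLeftRingHom : Polynomial M →+* Polynomial M ⊗[Polynomial P] T) from
          RingHom.congr_fun h g
        refine Polynomial.ringHom_ext' (RingHom.ext fun m => ?_) ?_
        · show φ (a (Polynomial.C m)) = _
          simp only [a, coe_eval₂RingHom, eval₂_C]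
          show φ (of' ((1 : T) ⊗ₜ[P] m)) = _
          rw [hφof, hi]
          rfl
        · show φ (a X) = _
          simp only [a, coe_eval₂RingHom, eval₂_X]
          exact hφroot
      rw [hψ, map_mul, hg]
      show _ * φ (of' (t ⊗ₜ[P] (1 : M))) = _
      rw [hφof, hi, Polynomial.C_1, Algebra.TensorProduct.tmul_mul_tmul, one_mul, mul_one]
  · refine AdjoinRoot.ringHom_ext (RingHom.ext fun r => ?_) ?_
    · show ψ (φ (of' r)) = of' r
      induction r using TensorProduct.induction_on with
      | zero => simp only [map_zero]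
      | add u v hu hv => rw [map_add, map_add, map_add, hu, hv]
      | tmul t m =>
        rw [hφof, hi, hψ]
        simp only [a, coe_eval₂RingHom, eval₂_C]
        show of' ((1 : T) ⊗ₜ[P] m) * of' (t ⊗ₜ[P] (1 : M)) = _
        rw [← map_mul, Algebra.TensorProduct.tmul_mul_tmul, one_mul, mul_one]
    · show ψ (φ (AdjoinRoot.root _)) = AdjoinRoot.root _
      rw [hφroot, hψ, map_one, mul_one]
      simp only [a, coe_eval₂RingHom, eval₂_X]

/-- The formal fibre over a radical extension of a polynomial ring is regular. -/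
theorem regular_polyRoot (P : Type u) [CommRing P] [IsRegularLocalRing P] [IsAdicComplete (maximalIdeal P) P]
    (n : Ideal (Polynomial P)) [n.IsPrime] (K : Type u) [Field K] [Algebra P K] [IsFractionRing P K]
    (K₁ : Type u) [Field K₁] [Algebra K K₁] [FiniteDimensional K K₁] [Algebra P K₁] [IsScalarTower P K K₁]
    (q : ℕ) (hq : 1 ≤ q) [Algebra (Polynomial P) (Polynomial K₁)] [IsScalarTower P (Polynomial P) (Polynomial K₁)]
    (hX : algebraMap (Polynomial P) (Polynomial K₁) X = X ^ q) :
    IsRegularRing (Polynomial K₁ ⊗[Polynomial P] EGA4.Cpl (Localization.AtPrime n)) := by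
  let T := EGA4.Cpl (Localization.AtPrime n)
  haveI : IsRegularRing (T ⊗[P] K₁) :=
    @IsRegularRing.of_ringEquiv _ _ _ _ (Algebra.TensorProduct.comm P K₁ T).toRingEquiv (regular_poly_finite P n K K₁)
  obtain ⟨Δ, -, hΔ⟩ := exists_dX P n K₁
  obtain ⟨e⟩ := nonempty_polyRoot_equiv (P := P) (T := T) (M := K₁) q hX
  refine @IsRegularRing.of_ringEquiv _ _ _ _ e ?_
  haveI : IsNoetherianRing (RootExt (T ⊗[P] K₁) q (algebraMap (Polynomial P) T X ⊗ₜ[P] (1 : K₁))) :=
    Ideal.Quotient.isNoetherianRing _
  rw [isRegularRing_iff]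
  intro Q _
  exact regular_rootExt_at q _ Δ Q fun h => (‹Q.IsPrime›).ne_top ((Ideal.eq_top_iff_one _).2 (by rwa [hΔ, map_one] at h))

/-- Localization commutes with base change. -/
theorem isRegularRing_localization_tensor (R B T F : Type u) [CommRing R] [CommRing B] [CommRing T] [CommRing F]
    [Algebra R B] [Algebra R T] [Algebra B F] [Algebra R F] [IsScalarTower R B F] (M : Submonoid B) [IsLocalization M F]
    (h : IsRegularRing (B ⊗[R] T)) : IsRegularRing (F ⊗[R] T) := by
  haveI := h
  haveI : IsRegularRing ((B ⊗[R] T) ⊗[B] F) :=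
    FlatDepth.isRegularRing_of_isLocalization (Algebra.algebraMapSubmonoid (B ⊗[R] T) M)
  exact @IsRegularRing.of_ringEquiv _ _ _ _ ((Algebra.TensorProduct.comm B (B ⊗[R] T) F).toRingEquiv.trans
    (Algebra.TensorProduct.cancelBaseChange R B B F T).toRingEquiv) ‹IsRegularRing ((B ⊗[R] T) ⊗[B] F)›

/-- Separable extensions preserve regularity of fibres. -/
theorem regular_separable_tensor (R F L T : Type u) [CommRing R] [Field F] [Field L] [CommRing T] [Algebra R F]
    [Algebra R T] [Algebra F L] [Algebra R L] [IsScalarTower R F L] [Module.Finite F L] [Algebra.IsSeparable F L]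
    (h : IsRegularRing (F ⊗[R] T)) : IsRegularRing (L ⊗[R] T) := by
  haveI := h
  haveI := FlatDepth.isRegularRing_tensor_separable (F := F) (F ⊗[R] T) L
  exact @IsRegularRing.of_ringEquiv _ _ _ _ ((Algebra.TensorProduct.comm F (F ⊗[R] T) L).toRingEquiv.trans
    (Algebra.TensorProduct.cancelBaseChange R F F L T).toRingEquiv) ‹IsRegularRing ((F ⊗[R] T) ⊗[F] L)›

/-- Regularity of fibres descends along field extensions. -/
theorem regular_field_descent (R L L' T : Type u) [CommRing R] [Field L] [Field L'] [CommRing T] [IsNoetherianRing T]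
    [Algebra R L] [Algebra R T] [Algebra L L'] [Algebra R L'] [IsScalarTower R L L'] [Algebra.EssFiniteType R L]
    (h : IsRegularRing (L' ⊗[R] T)) : IsRegularRing (L ⊗[R] T) := by
  haveI : IsNoetherianRing (T ⊗[R] L) := Algebra.EssFiniteType.isNoetherianRing T _
  haveI : IsNoetherianRing (L ⊗[R] T) :=
    isNoetherianRing_of_ringEquiv (T ⊗[R] L) (Algebra.TensorProduct.comm R T L).toRingEquiv
  haveI : IsRegularRing ((L ⊗[R] T) ⊗[L] L') := @IsRegularRing.of_ringEquiv _ _ _ _
    ((Algebra.TensorProduct.cancelBaseChange R L L L' T).symm.toRingEquiv.trans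
      (Algebra.TensorProduct.comm L L' (L ⊗[R] T)).toRingEquiv) h
  exact FlatDepth.regular_of_faithfullyFlat (A := L ⊗[R] T) (B := (L ⊗[R] T) ⊗[L] L')

/-- The field theory behind the reduction to radical extensions. -/
theorem exists_radical_model (P : Type u) [CommRing P] [IsDomain P] (K : Type u) [Field K] [Algebra P K]
    [IsFractionRing P K] (Kx : Type u) [Field Kx] [Algebra (Polynomial P) Kx] [IsFractionRing (Polynomial P) Kx]
    (L : Type u) [Field L] [Algebra Kx L] [FiniteDimensional Kx L] [Algebra (Polynomial P) L]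
    [IsScalarTower (Polynomial P) Kx L] :
    ∃ (Ω : Type u) (_ : Field Ω) (_ : Algebra L Ω) (_ : Algebra P Ω) (_ : Algebra K Ω) (_ : IsScalarTower P K Ω)
      (q : ℕ) (K₁ : IntermediateField K Ω) (y : Ω) (_ : 1 ≤ q) (_ : FiniteDimensional K K₁),
      Function.Injective (aeval y : Polynomial K₁ →ₐ[K₁] Ω) ∧
      (∀ a : P, algebraMap L Ω (algebraMap (Polynomial P) L (Polynomial.C a)) = algebraMap P Ω a) ∧
      algebraMap L Ω (algebraMap (Polynomial P) L X) = y ^ q ∧
      ∀ z : L, ∃ g : Polynomial (FractionRing (Polynomial K₁)), g.Separable ∧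
        ∀ h : Function.Injective (aeval y : Polynomial K₁ →ₐ[K₁] Ω),
          g.eval₂ (IsFractionRing.lift (K := FractionRing (Polynomial K₁)) h) (algebraMap L Ω z) = 0 := by
  classical
  let Ω := AlgebraicClosure L
  let j : Polynomial P →+* Ω := (algebraMap L Ω).comp (algebraMap (Polynomial P) L)
  have hj : Function.Injective j := by
    rw [RingHom.coe_comp, IsScalarTower.algebraMap_eq (Polynomial P) Kx L]
    exact (algebraMap L Ω).injective.comp ((algebraMap Kx L).injective.comp (IsFractionRing.injective _ _))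
  letI : Algebra P Ω := (j.comp Polynomial.C).toAlgebra
  have hjP : Function.Injective (algebraMap P Ω) := hj.comp Polynomial.C_injective
  letI : Algebra K Ω := (IsFractionRing.lift hjP).toAlgebra
  haveI : IsScalarTower P K Ω := .of_algebraMap_eq fun a => (IsFractionRing.lift_algebraMap hjP a).symm
  obtain ⟨p, hp⟩ := ExpChar.exists Ω
  -- all elements become separable after `p ^ N`
  haveI : ExpChar Kx p := RingHom.expChar ((algebraMap L Ω).comp (algebraMap Kx L)) ((algebraMap L Ω).comp (algebraMap Kx L)).injective p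
  let S := separableClosure Kx L
  haveI : ExpChar S p := expChar_of_injective_algebraMap (algebraMap Kx S).injective p
  choose ne hne using fun i => IsPurelyInseparable.pow_mem S p (Module.finBasis Kx L i)
  let N := Finset.univ.sup ne
  have hN : ∀ z : L, IsSeparable Kx (z ^ p ^ N) := by
    intro z
    rw [← mem_separableClosure_iff, ← (Module.finBasis Kx L).sum_repr z]
    haveI : ExpChar L p := expChar_of_injective_algebraMap (algebraMap Kx L).injective p
    rw [sum_pow_char_pow]
    refine sum_mem fun i _ => ?_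
    rw [Algebra.smul_def, mul_pow, ← map_pow]
    refine mul_mem (IntermediateField.algebraMap_mem _ _) ?_
    obtain ⟨w, hw⟩ := hne i
    obtain ⟨c, hc⟩ : ∃ c, N = ne i + c := Nat.exists_eq_add_of_le (Finset.le_sup (f := ne) (Finset.mem_univ i))
    rw [hc, pow_add, pow_mul, ← hw]
    exact pow_mem w.2 _
  let σ : Ω ≃+* Ω := iterateFrobeniusEquiv Ω p N
  have hσ : ∀ w, σ w = w ^ p ^ N := fun w => iterateFrobeniusEquiv_def _ _ _ _
  let y : Ω := σ.symm (j X)
  have hy : y ^ p ^ N = j X := (hσ y).symm.trans (σ.apply_symm_apply _)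
  -- minimal polynomials of a basis
  let b := Module.finBasis Kx L
  let gb := fun i => minpoly Kx (b i ^ p ^ N)
  have hfrac : ∀ c : Kx, ∃ u v : Polynomial P, v ≠ 0 ∧ c * algebraMap _ Kx v = algebraMap _ Kx u := fun c => by
    obtain ⟨u, v, hv, hc⟩ := IsFractionRing.div_surjective (Polynomial P) c
    exact ⟨u, v, nonZeroDivisors.ne_zero hv, by
      rw [← hc, div_mul_cancel₀ _ (IsFractionRing.to_map_ne_zero_of_mem_nonZeroDivisors hv)]⟩
  choose num den hden hnum using hfrac
  let polys : Finset (Polynomial P) := Finset.univ.biUnion fun i =>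
    (gb i).coeffs.image num ∪ (gb i).coeffs.image den
  let roots : Finset Ω := polys.biUnion fun u => u.coeffs.image fun a => σ.symm (algebraMap P Ω a)
  let K₁ := IntermediateField.adjoin K (roots : Set Ω)
  have halg : ∀ a : P, IsIntegral K (σ.symm (algebraMap P Ω a)) := fun a => by
    refine IsIntegral.of_pow (pow_pos (expChar_pos Ω p) N) ?_
    rw [← hσ, RingEquiv.apply_symm_apply, IsScalarTower.algebraMap_apply P K Ω]
    exact isIntegral_algebraMap
  haveI hfinK₁ : FiniteDimensional K K₁ := by
    refine IntermediateField.finiteDimensional_adjoin fun x hx => ?_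
    obtain ⟨u, -, hx⟩ := Finset.mem_biUnion.1 hx
    obtain ⟨a, -, rfl⟩ := Finset.mem_image.1 hx
    exact halg a
  -- `X` is transcendental
  have htrans : Transcendental K (j X) := by
    intro halgX
    obtain ⟨g, hg0, hg⟩ := (IsFractionRing.isAlgebraic_iff P K Ω).mpr halgX
    refine hg0 (hj (?_ : j g = j 0))
    rw [map_zero, ← hg]
    conv_lhs => rw [← Polynomial.eval₂_C_X (p := g)]
    rw [Polynomial.hom_eval₂]
    rfl
  have hyinj : Function.Injective (aeval y : Polynomial K₁ →ₐ[K₁] Ω) := by
    rw [← transcendental_iff_injective]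
    intro h
    haveI : Algebra.IsAlgebraic K K₁ := Algebra.IsAlgebraic.of_finite K K₁
    have h1 : IsIntegral K y := isIntegral_trans (R := K) (A := K₁) y h.isIntegral
    exact htrans (hy ▸ (h1.pow (p ^ N)).isAlgebraic)
  refine ⟨Ω, inferInstance, inferInstance, inferInstance, inferInstance, inferInstance, p ^ N, K₁, y,
    Nat.one_le_pow _ _ (expChar_pos Ω p), hfinK₁, hyinj, fun a => rfl, hy.symm, fun z => ?_⟩
  let ι := IsFractionRing.lift (K := FractionRing (Polynomial K₁)) hyinj
  -- `σ⁻¹` of the base lands in the model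
  have hpoly : ∀ u ∈ polys, σ.symm (j u) ∈ ι.range := by
    intro u hu
    suffices h : σ.symm (j u) ∈ (aeval y : Polynomial K₁ →ₐ[K₁] Ω).range by
      obtain ⟨g, hg⟩ := h
      exact ⟨algebraMap _ _ g, (IsFractionRing.lift_algebraMap hyinj g).trans hg⟩
    have hju : j u = ∑ i ∈ u.support, algebraMap P Ω (u.coeff i) * j X ^ i := by
      conv_lhs => rw [u.as_sum_support_C_mul_X_pow]
      rw [map_sum]
      exact Finset.sum_congr rfl fun i _ => by rw [map_mul, map_pow]; rfl
    rw [hju, map_sum]
    refine sum_mem fun i hi => ?_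
    rw [map_mul, map_pow]
    refine mul_mem ?_ (pow_mem (show σ.symm (j X) ∈ (aeval y : Polynomial K₁ →ₐ[K₁] Ω).range from ⟨X, aeval_X y⟩) i)
    refine ⟨Polynomial.C ⟨σ.symm (algebraMap P Ω (u.coeff i)), IntermediateField.subset_adjoin K _ ?_⟩, aeval_C y _⟩
    exact Finset.mem_coe.2 (Finset.mem_biUnion.2 ⟨u, hu, Finset.mem_image.2 ⟨u.coeff i, Polynomial.coeff_mem_coeffs (Polynomial.mem_support_iff.1 hi), rfl⟩⟩)
  -- separable over the model
  haveI : IsScalarTower P K₁ Ω := .of_algebraMap_eq fun a => by
    rw [IsScalarTower.algebraMap_apply P K Ω, IsScalarTower.algebraMap_apply P K K₁]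
    rfl
  letI : Algebra (FractionRing (Polynomial K₁)) Ω := ι.toAlgebra
  let E := separableClosure (FractionRing (Polynomial K₁)) Ω
  have hb : ∀ i, algebraMap L Ω (b i) ∈ E := by
    intro i
    let θ : Kx →+* Ω := (σ.symm : Ω →+* Ω).comp ((algebraMap L Ω).comp (algebraMap Kx L))
    have hθ : ∀ c ∈ (gb i).coeffs, θ c ∈ ι.range := by
      intro c hc
      have h1 : ∀ u : Polynomial P, θ (algebraMap _ Kx u) = σ.symm (j u) := fun u => by
        show σ.symm (algebraMap L Ω (algebraMap Kx L (algebraMap _ Kx u))) = _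
        rw [← IsScalarTower.algebraMap_apply (Polynomial P) Kx L u]
        rfl
      have hv : θ (algebraMap _ Kx (den c)) ≠ 0 :=
        (map_ne_zero θ).2 ((map_ne_zero_iff _ (IsFractionRing.injective _ _)).2 (hden c))
      have : θ c = θ (algebraMap _ Kx (num c)) / θ (algebraMap _ Kx (den c)) := by
        rw [eq_div_iff hv, ← map_mul, hnum]
      rw [this, h1, h1]
      obtain ⟨g1, hg1⟩ := hpoly (num c) (Finset.mem_biUnion.2 ⟨i, Finset.mem_univ _, Finset.mem_union_left _ (Finset.mem_image_of_mem _ hc)⟩)
      obtain ⟨g2, hg2⟩ := hpoly (den c) (Finset.mem_biUnion.2 ⟨i, Finset.mem_univ _, Finset.mem_union_right _ (Finset.mem_image_of_mem _ hc)⟩)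
      exact ⟨g1 / g2, by rw [map_div₀, hg1, hg2]⟩
    obtain ⟨G, hG⟩ : ∃ G : Polynomial (FractionRing (Polynomial K₁)), G.map ι = (gb i).map θ := by
      rw [← Polynomial.mem_lifts, Polynomial.lifts_iff_coeff_lifts]
      intro k
      rw [Polynomial.coeff_map]
      by_cases hk : (gb i).coeff k = 0
      · rw [hk, map_zero]; exact ⟨0, map_zero _⟩
      · exact hθ _ (Polynomial.coeff_mem_coeffs hk)
    have hGsep : G.Separable := by
      rw [← Polynomial.separable_map ι, hG, Polynomial.separable_map]
      exact hN (b i)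
    rw [mem_separableClosure_iff]
    refine hGsep.of_dvd (minpoly.dvd _ _ ?_)
    rw [Polynomial.aeval_def, Polynomial.eval₂_eq_eval_map]
    show (G.map ι).eval _ = 0
    rw [hG, ← Polynomial.eval₂_eq_eval_map,
      show algebraMap L Ω (b i) = σ.symm (algebraMap L Ω (b i ^ p ^ N)) from (σ.eq_symm_apply).2 (by rw [hσ, map_pow]),
      show θ = (σ.symm : Ω →+* Ω).comp ((algebraMap L Ω).comp (algebraMap Kx L)) from rfl]
    show Polynomial.eval₂ _ ((σ.symm : Ω →+* Ω) _) (gb i) = 0
    rw [← Polynomial.hom_eval₂, ← Polynomial.hom_eval₂, ← Polynomial.aeval_def, minpoly.aeval, map_zero, map_zero]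
  have hKx : ∀ c : Kx, algebraMap L Ω (algebraMap Kx L c) ∈ E := by
    intro c
    obtain ⟨u, v, hv, rfl⟩ := IsFractionRing.div_surjective (Polynomial P) c
    have h1 : ∀ u : Polynomial P, j u ∈ E := by
      intro u
      induction u using Polynomial.induction_on with
      | C a =>
        have : j (Polynomial.C a) = ι (algebraMap _ _ (Polynomial.C (algebraMap P K₁ a))) := by
          rw [IsFractionRing.lift_algebraMap]
          show algebraMap P Ω a = aeval y (Polynomial.C (algebraMap P K₁ a))
          rw [aeval_C, ← IsScalarTower.algebraMap_apply]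
        rw [this]; exact E.algebraMap_mem _
      | add f g hf hg => rw [map_add]; exact add_mem hf hg
      | monomial k a h =>
        rw [pow_succ, ← mul_assoc, map_mul]
        refine mul_mem h ?_
        rw [← hy]
        refine pow_mem ?_ _
        have : y = ι (algebraMap _ _ (X : Polynomial K₁)) := by
          rw [IsFractionRing.lift_algebraMap]; exact (aeval_X y).symm
        rw [this]; exact E.algebraMap_mem _
    rw [map_div₀, map_div₀, ← IsScalarTower.algebraMap_apply (Polynomial P) Kx L u, ← IsScalarTower.algebraMap_apply (Polynomial P) Kx L v]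
    exact div_mem (h1 u) (h1 v)
  have hz : algebraMap L Ω z ∈ E := by
    rw [← b.sum_repr z, map_sum]
    exact sum_mem fun i _ => by rw [Algebra.smul_def, map_mul]; exact mul_mem (hKx _) (hb i)
  exact ⟨minpoly (FractionRing (Polynomial K₁)) (algebraMap L Ω z), mem_separableClosure_iff.1 hz,
    fun _ => minpoly.aeval (FractionRing (Polynomial K₁)) (algebraMap L Ω z)⟩

/-- Formal fibres of a polynomial ring over a regular complete local domain over the generic point. -/
theorem regular_poly_generic (P : Type u) [CommRing P] [IsRegularLocalRing P] [IsAdicComplete (maximalIdeal P) P]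
    (n : Ideal (Polynomial P)) [n.IsPrime] (Kx : Type u) [Field Kx] [Algebra (Polynomial P) Kx]
    [IsFractionRing (Polynomial P) Kx] (L : Type u) [Field L] [Algebra Kx L] [FiniteDimensional Kx L]
    [Algebra (Polynomial P) L] [IsScalarTower (Polynomial P) Kx L] :
    IsRegularRing (L ⊗[Polynomial P] EGA4.Cpl (Localization.AtPrime n)) := by
  haveI := RegLoc.isDomain P
  let K := FractionRing P
  obtain ⟨Ω, _, _, _, _, _, q, K₁, y, hq, _, hinj, hC, hX, hsep⟩ := exists_radical_model P K Kx L
  let T := EGA4.Cpl (Localization.AtPrime n)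
  let B := Polynomial K₁
  let F := FractionRing B
  let g : Polynomial P →+* B := eval₂RingHom ((Polynomial.C).comp (algebraMap P K₁)) ((X : B) ^ q)
  letI : Algebra (Polynomial P) B := g.toAlgebra
  haveI : IsScalarTower P (Polynomial P) B := .of_algebraMap_eq fun a => (eval₂_C _ _).symm
  let ι := IsFractionRing.lift (K := F) hinj
  haveI : IsScalarTower P K₁ Ω := .of_algebraMap_eq fun a => by
    rw [IsScalarTower.algebraMap_apply P K Ω, IsScalarTower.algebraMap_apply P K K₁]
    rfl
  letI : Algebra F Ω := ι.toAlgebra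
  letI : Algebra (Polynomial P) Ω := ((algebraMap L Ω).comp (algebraMap (Polynomial P) L)).toAlgebra
  haveI : IsScalarTower (Polynomial P) L Ω := .of_algebraMap_eq fun _ => rfl
  haveI : IsScalarTower (Polynomial P) F Ω := .of_algebraMap_eq' (Polynomial.ringHom_ext' (RingHom.ext fun a => by
      show algebraMap L Ω (algebraMap (Polynomial P) L (Polynomial.C a)) = ι (algebraMap B F (g (Polynomial.C a)))
      rw [hC, IsFractionRing.lift_algebraMap]
      simp only [g, coe_eval₂RingHom, eval₂_C]
      show algebraMap P Ω a = aeval y (Polynomial.C (algebraMap P K₁ a))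
      rw [aeval_C, ← IsScalarTower.algebraMap_apply]) (by
      show algebraMap L Ω (algebraMap (Polynomial P) L X) = ι (algebraMap B F (g X))
      rw [hX, IsFractionRing.lift_algebraMap]
      simp only [g, coe_eval₂RingHom, eval₂_X]
      show y ^ q = aeval y ((X : Polynomial K₁) ^ q)
      rw [map_pow, aeval_X]))
  let b := Module.finBasis Kx L
  let L' := IntermediateField.adjoin F (Set.range fun i => algebraMap L Ω (b i))
  have hint : ∀ z : L, IsSeparable F (algebraMap L Ω z) := fun z => by
    obtain ⟨G, hG, h0⟩ := hsep z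
    exact hG.of_dvd (minpoly.dvd F (algebraMap L Ω z) (h0 hinj))
  haveI : FiniteDimensional F L' :=
    haveI : Finite (Set.range fun i => algebraMap L Ω (b i)) := (Set.finite_range _).to_subtype
    IntermediateField.finiteDimensional_adjoin fun x hx => by
      obtain ⟨i, rfl⟩ := hx
      exact (hint (b i)).isIntegral
  haveI : Algebra.IsSeparable F L' := (IntermediateField.isSeparable_adjoin_iff_isSeparable F Ω).2 (by
    rintro _ ⟨i, rfl⟩; exact hint (b i))
  -- regularity upstairs
  haveI : IsRegularRing (B ⊗[Polynomial P] T) := regular_polyRoot P n K K₁ q hq (eval₂_X _ _)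
  haveI : IsRegularRing (F ⊗[Polynomial P] T) := isRegularRing_localization_tensor (Polynomial P) B T F (nonZeroDivisors B) ‹_›
  have hup : IsRegularRing (L' ⊗[Polynomial P] T) := regular_separable_tensor (Polynomial P) F L' T ‹_›
  -- descent to `L`
  have hKx : ∀ c : Kx, algebraMap L Ω (algebraMap Kx L c) ∈ L' := fun c => by
    obtain ⟨u, v, hv, rfl⟩ := IsFractionRing.div_surjective (Polynomial P) c
    have h1 : ∀ u : Polynomial P, algebraMap L Ω (algebraMap (Polynomial P) L u) ∈ L' := fun u => by
      rw [← IsScalarTower.algebraMap_apply (Polynomial P) L Ω, IsScalarTower.algebraMap_apply (Polynomial P) F Ω]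
      exact L'.algebraMap_mem _
    rw [map_div₀, map_div₀, ← IsScalarTower.algebraMap_apply (Polynomial P) Kx L u,
      ← IsScalarTower.algebraMap_apply (Polynomial P) Kx L v]
    exact div_mem (h1 u) (h1 v)
  have hL : ∀ z : L, algebraMap L Ω z ∈ L' := fun z => by
    rw [← b.sum_repr z, map_sum]
    exact sum_mem fun i _ => by
      rw [Algebra.smul_def, map_mul]
      exact mul_mem (hKx _) (IntermediateField.subset_adjoin F _ ⟨i, rfl⟩)
  let f : L →+* L' := (algebraMap L Ω).codRestrict L' hL
  letI : Algebra L L' := f.toAlgebra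
  haveI : IsScalarTower (Polynomial P) L L' := .of_algebraMap_eq fun u => Subtype.ext (by
    show ((algebraMap (Polynomial P) L' u : L') : Ω) = algebraMap L Ω (algebraMap (Polynomial P) L u)
    rw [← IsScalarTower.algebraMap_apply (Polynomial P) L Ω, IsScalarTower.algebraMap_apply (Polynomial P) F Ω,
      IsScalarTower.algebraMap_apply (Polynomial P) F L']
    rfl)
  haveI : Algebra.EssFiniteType (Polynomial P) Kx := Algebra.EssFiniteType.of_isLocalization Kx (nonZeroDivisors (Polynomial P))
  haveI : Algebra.EssFiniteType (Polynomial P) L := Algebra.EssFiniteType.comp (Polynomial P) Kx L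
  exact regular_field_descent (Polynomial P) L L' T hup

end Groth.Agent.CplDomain
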