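import Groth.Agent.Lib.CplDomain.PolyFibre
import Groth.Agent.Lib.CplDomain.GRing
import Mathlib

/-! # Polynomial rings over complete local rings are G-rings -/

set_option autoImplicit false
universe u

open IsLocalRing TensorProduct Polynomial

namespace Groth.Agent.CplDomain

/-- Shortcut for the algebra structure of a completion. -/
noncomputable local instance (priority := high) cplAlgebra (A : Type u) [CommRing A] [IsLocalRing A] :
    Algebra A (EGA4.Cpl A) :=
  AdicCompletion.instAlgebra _

/-- Shortcut for the algebra structure of a completed localization. -/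
noncomputable local instance (priority := high) cplLocAlgebra (A : Type u) [CommRing A] (n : Ideal A) [n.IsPrime] :
    Algebra A (EGA4.Cpl (Localization.AtPrime n)) :=
  AdicCompletion.instAlgebra _

section Right

attribute [local instance] Algebra.TensorProduct.rightAlgebra

/-- Regularity of `L ⊗ Cpl` from a complete flat extension, over any base. -/
theorem regular_cpl_tensor_of_extension (R₀ : Type u) [CommRing R₀] (A' : Type u) [CommRing A'] [IsLocalRing A']
    [IsNoetherianRing A'] [Algebra R₀ A'] (S' : Type u) [CommRing S'] [IsLocalRing S'] [IsNoetherianRing S']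
    [hcompl : IsAdicComplete (maximalIdeal S') S'] [Algebra R₀ S'] [Algebra A' S'] [IsScalarTower R₀ A' S']
    [IsLocalHom (algebraMap A' S')] [hflat : Module.Flat A' S'] (L : Type u) [CommRing L] [Algebra R₀ L]
    [Algebra.EssFiniteType R₀ L] (h : IsRegularRing (S' ⊗[R₀] L)) :
    IsRegularRing (L ⊗[R₀] EGA4.Cpl A') := by
  obtain ⟨_, htow, hff⟩ := FlatDepth.exists_cpl_tower A' S'
  haveI := htow
  haveI := hff hflat
  let CA := EGA4.Cpl A'
  let CS := EGA4.Cpl S'
  haveI : IsScalarTower R₀ CA CS := .of_algebraMap_eq fun x => by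
    rw [IsScalarTower.algebraMap_apply R₀ A' CA, ← IsScalarTower.algebraMap_apply A' CA CS,
      ← IsScalarTower.algebraMap_apply R₀ A' CS]
  let eCS : S' ≃ₐ[R₀] CS := AlgEquiv.ofBijective (IsScalarTower.toAlgHom R₀ S' CS)
    (AdicCompletion.of_bijective_iff.2 hcompl)
  haveI hCS : IsRegularRing (CS ⊗[R₀] L) := @IsRegularRing.of_ringEquiv _ _ _ _
    (Algebra.TensorProduct.congr eCS (AlgEquiv.refl : L ≃ₐ[R₀] L)).toRingEquiv h
  haveI hB : IsRegularRing ((CA ⊗[R₀] L) ⊗[CA] CS) := @IsRegularRing.of_ringEquiv _ _ _ _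
    ((Algebra.TensorProduct.cancelBaseChange R₀ CA CA CS L).symm.toRingEquiv.trans
      (Algebra.TensorProduct.comm CA CS (CA ⊗[R₀] L)).toRingEquiv) hCS
  haveI : IsNoetherianRing (CA ⊗[R₀] L) := Algebra.EssFiniteType.isNoetherianRing CA _
  exact @IsRegularRing.of_ringEquiv _ _ _ _ (Algebra.TensorProduct.comm R₀ CA L).toRingEquiv
    (FlatDepth.regular_of_faithfullyFlat (A := CA ⊗[R₀] L) (B := (CA ⊗[R₀] L) ⊗[CA] CS))

/-- Completions of localizations of a finite algebra, tensored over any base. -/
theorem regular_completion_tensor (P : Type u) [CommRing P] [IsNoetherianRing P]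
    (A : Type u) [CommRing A] [IsNoetherianRing A] [Algebra P A] [Module.Finite P A] (m : Ideal A) [m.IsPrime]
    (R₀ : Type u) [CommRing R₀] [Algebra R₀ A] (L : Type u) [CommRing L] [Algebra R₀ L] [Algebra.EssFiniteType R₀ L]
    (h : IsRegularRing ((A ⊗[P] EGA4.Cpl (Localization.AtPrime (m.under P))) ⊗[R₀] L)) :
    IsRegularRing (L ⊗[R₀] EGA4.Cpl (Localization.AtPrime m)) := by
  obtain ⟨Q, hQmax, hQm⟩ := exists_point P A m
  let T := EGA4.Cpl (Localization.AtPrime (m.under P))
  let S := A ⊗[P] T
  let A' := Localization.AtPrime m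
  haveI : Module.Finite T S := Module.Finite.equiv (Algebra.TensorProduct.commRight P T A).toLinearEquiv
  haveI := hQmax.isPrime
  haveI : IsAdicComplete (maximalIdeal T) T := by
    rw [CplLocH7.maximalIdeal_cpl]
    exact (IsAdicComplete.map_algebraMap_iff _ _).2 (AdicCompletion.isAdicComplete (IsNoetherian.noetherian _))
  obtain ⟨hnoeth, hcompl⟩ := (S9405.result T S).2.2 ⟨Q, hQmax⟩
  let S' := Localization.AtPrime Q
  haveI : IsLocalRing S' := inferInstanceAs (IsLocalRing (Localization.AtPrime Q))
  haveI : IsNoetherianRing S' := hnoeth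
  haveI : Q.LiesOver m := ⟨hQm.symm⟩
  letI := Localization.AtPrime.algebraOfLiesOver m Q
  haveI : IsLocalHom (algebraMap A' S') :=
    Localization.isLocalHom_localRingHom m Q (algebraMap A S) hQm.symm
  haveI : Module.Flat (Localization.AtPrime (m.under P)) T := AdicCompletion.flat_of_isNoetherian _
  haveI : Module.Flat P T := Module.Flat.trans P (Localization.AtPrime (m.under P)) T
  haveI : Module.Flat A S := inferInstance
  haveI : Module.Flat S S' := IsLocalization.flat S' Q.primeCompl
  haveI : Module.Flat A S' := Module.Flat.trans A S S'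
  have hflat : Module.Flat A' S' := (Module.flat_iff_of_isLocalization A' m.primeCompl S').2 inferInstance
  haveI : IsScalarTower R₀ A' S' := .of_algebraMap_eq fun x => by
    rw [IsScalarTower.algebraMap_apply R₀ A A', ← IsScalarTower.algebraMap_apply A A' S',
      IsScalarTower.algebraMap_apply A S S', IsScalarTower.algebraMap_apply R₀ S S']
    rfl
  exact @regular_cpl_tensor_of_extension R₀ _ A' _ _ _ _ S' _ _ hnoeth hcompl _ _ _ _ hflat L _ _ _
    (isRegularRing_tensor_localization R₀ S L Q.primeCompl S' h)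

end Right

section Pushout

/-- Base change of a polynomial ring. -/
theorem nonempty_poly_algEquiv (P R T : Type u) [CommRing P] [CommRing R] [Algebra P R] [CommRing T]
    [Algebra (Polynomial P) T] [Algebra P T] [IsScalarTower P (Polynomial P) T] :
    letI := Polynomial.algebra P R
    Nonempty (R ⊗[P] T ≃ₐ[R] Polynomial R ⊗[Polynomial P] T) := by
  letI := Polynomial.algebra P R
  let eP : Polynomial P ⊗[P] R ≃ₐ[Polynomial P] Polynomial R :=
    Algebra.IsPushout.equiv P (Polynomial P) R (Polynomial R)
  let e₁ : R ⊗[P] T ≃+* Polynomial R ⊗[Polynomial P] T :=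
    ((Algebra.TensorProduct.comm P R T).toRingEquiv.trans
      (Algebra.TensorProduct.cancelBaseChange P (Polynomial P) (Polynomial P) T R).symm.toRingEquiv).trans
      ((Algebra.TensorProduct.congr (AlgEquiv.refl : T ≃ₐ[Polynomial P] T) eP).toRingEquiv.trans
        (Algebra.TensorProduct.comm (Polynomial P) T (Polynomial R)).toRingEquiv)
  refine ⟨AlgEquiv.ofRingEquiv (f := e₁) fun r => ?_⟩
  show (Algebra.TensorProduct.comm (Polynomial P) T (Polynomial R))
    ((Algebra.TensorProduct.congr (AlgEquiv.refl : T ≃ₐ[Polynomial P] T) eP)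
      ((Algebra.TensorProduct.cancelBaseChange P (Polynomial P) (Polynomial P) T R).symm
        (Algebra.TensorProduct.comm P R T (r ⊗ₜ[P] (1 : T))))) = Polynomial.C r ⊗ₜ[Polynomial P] (1 : T)
  rw [Algebra.TensorProduct.comm_tmul, Algebra.TensorProduct.cancelBaseChange_symm_tmul,
    Algebra.TensorProduct.congr_apply, Algebra.TensorProduct.map_tmul, Algebra.TensorProduct.comm_tmul]
  congr 1
  show eP ((1 : Polynomial P) ⊗ₜ[P] r) = _
  rw [Algebra.IsPushout.equiv_tmul, map_one, one_mul]
  rfl

theorem finite_poly (P R : Type u) [CommRing P] [CommRing R] [Algebra P R] [Module.Finite P R] :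
    letI := Polynomial.algebra P R
    Module.Finite (Polynomial P) (Polynomial R) :=
  letI := Polynomial.algebra P R
  Module.Finite.equiv (Algebra.IsPushout.equiv P (Polynomial P) R (Polynomial R)).toLinearEquiv

/-- Both kinds of generic formal fibres of `R[X]` for a complete local domain. -/
theorem regular_poly_domain (R : Type u) [CommRing R] [IsDomain R] [IsLocalRing R] [IsNoetherianRing R]
    [IsAdicComplete (maximalIdeal R) R] (n : Ideal (Polynomial R)) [n.IsPrime] :
    (∀ (k : Type u) [Field k] [Algebra R k] [IsFractionRing R k] (L : Type u) [Field L] [Algebra k L]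
      [Module.Finite k L] [Algebra R L] [IsScalarTower R k L],
      IsRegularRing (L ⊗[R] EGA4.Cpl (Localization.AtPrime n))) ∧
    (∀ (k : Type u) [Field k] [Algebra (Polynomial R) k] [IsFractionRing (Polynomial R) k] (L : Type u) [Field L]
      [Algebra k L] [Module.Finite k L] [Algebra (Polynomial R) L] [IsScalarTower (Polynomial R) k L]
      [Algebra (Localization.AtPrime n) L] [IsScalarTower (Polynomial R) (Localization.AtPrime n) L],
      IsRegularRing (L ⊗[Localization.AtPrime n] EGA4.Cpl (Localization.AtPrime n))) := by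
  obtain ⟨Λ, i1, N, φ, hΛ, hinj, hfin, -⟩ := exists_finite_injective R
  have hΛ' : ∃ (_ : IsRegularLocalRing Λ), IsAdicComplete (maximalIdeal Λ) Λ := by
    rcases hΛ with hF | ⟨hcoh, -⟩
    · letI := hF.toField
      refine ⟨inferInstance, ?_⟩
      rw [show maximalIdeal Λ = ⊥ from IsLocalRing.maximalIdeal_eq_bot]
      infer_instance
    · obtain ⟨_, _, hc, -⟩ := hcoh
      exact ⟨inferInstance, hc⟩
  obtain ⟨_, _⟩ := hΛ'
  let P := MvPowerSeries (Fin N) Λ
  haveI : IsRegularLocalRing P := Cohen.isRegularLocalRing_mvPowerSeries Λ N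
  haveI := RegLoc.isDomain P
  haveI : IsAdicComplete (maximalIdeal P) P := ArtFunLib.isAdicComplete_mvPowerSeries
  letI : Algebra P R := φ.toAlgebra
  haveI : Module.Finite P R := RingHom.finite_algebraMap.1 hfin
  haveI : FaithfulSMul P R := (faithfulSMul_iff_algebraMap_injective _ _).mpr hinj
  letI := Polynomial.algebra P R
  haveI : Module.Finite (Polynomial P) (Polynomial R) := finite_poly P R
  let K := FractionRing P
  let n₀ := n.under (Polynomial P)
  let T₀ := EGA4.Cpl (Localization.AtPrime n₀)
  constructor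
  · intro k _ _ _ L _ _ _ _ _
    letI : Algebra P k := ((algebraMap R k).comp φ).toAlgebra
    haveI : IsScalarTower P R k := .of_algebraMap_eq fun _ => rfl
    letI : Algebra P L := ((algebraMap R L).comp φ).toAlgebra
    haveI : IsScalarTower P R L := .of_algebraMap_eq fun _ => rfl
    haveI : IsScalarTower P k L := .of_algebraMap_eq fun x => IsScalarTower.algebraMap_apply R k L (φ x)
    haveI : FaithfulSMul P k := (faithfulSMul_iff_algebraMap_injective _ _).mpr
      ((IsFractionRing.injective R k).comp hinj)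
    haveI : FaithfulSMul P L := (faithfulSMul_iff_algebraMap_injective _ _).mpr (by
      rw [IsScalarTower.algebraMap_eq P k L]; exact (algebraMap k L).injective.comp (FaithfulSMul.algebraMap_injective P k))
    letI := FractionRing.liftAlgebra P k
    letI := FractionRing.liftAlgebra P L
    haveI : FiniteDimensional K k := Module.Finite.of_isLocalization P R (nonZeroDivisors P)
    haveI : IsScalarTower K k L := .of_algebraMap_eq' (IsLocalization.ringHom_ext (nonZeroDivisors P) (by
      rw [RingHom.comp_assoc, ← IsScalarTower.algebraMap_eq P K k, ← IsScalarTower.algebraMap_eq P K L,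
        ← IsScalarTower.algebraMap_eq P k L]))
    haveI : FiniteDimensional K L := Module.Finite.trans k L
    haveI : Algebra.EssFiniteType R k := Algebra.EssFiniteType.of_isLocalization k (nonZeroDivisors R)
    haveI : Algebra.EssFiniteType R L := Algebra.EssFiniteType.comp R k L
    obtain ⟨e⟩ := nonempty_poly_algEquiv P R T₀
    refine regular_completion_tensor (Polynomial P) (Polynomial R) n R L
      (@IsRegularRing.of_ringEquiv _ _ _ _ ?_ (regular_poly_finite P n₀ K L))
    exact ((Algebra.TensorProduct.cancelBaseChange P R R L T₀).symm.toRingEquiv.trans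
      (Algebra.TensorProduct.congr (AlgEquiv.refl : L ≃ₐ[R] L) e).toRingEquiv).trans
      (Algebra.TensorProduct.comm R L _).toRingEquiv
  · intro k _ _ _ L _ _ _ _ _ _ _
    letI : Algebra (Polynomial P) k := ((algebraMap (Polynomial R) k).comp (algebraMap (Polynomial P) (Polynomial R))).toAlgebra
    haveI : IsScalarTower (Polynomial P) (Polynomial R) k := .of_algebraMap_eq fun _ => rfl
    letI : Algebra (Polynomial P) L := ((algebraMap (Polynomial R) L).comp (algebraMap (Polynomial P) (Polynomial R))).toAlgebra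
    haveI : IsScalarTower (Polynomial P) (Polynomial R) L := .of_algebraMap_eq fun _ => rfl
    haveI : IsScalarTower (Polynomial P) k L := .of_algebraMap_eq fun x =>
      IsScalarTower.algebraMap_apply (Polynomial R) k L (algebraMap (Polynomial P) (Polynomial R) x)
    haveI : FaithfulSMul (Polynomial P) k := (faithfulSMul_iff_algebraMap_injective _ _).mpr
      ((IsFractionRing.injective (Polynomial R) k).comp (Polynomial.map_injective _ hinj))
    haveI : FaithfulSMul (Polynomial P) L := (faithfulSMul_iff_algebraMap_injective _ _).mpr (by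
      rw [IsScalarTower.algebraMap_eq (Polynomial P) k L]
      exact (algebraMap k L).injective.comp (FaithfulSMul.algebraMap_injective (Polynomial P) k))
    let Kx := FractionRing (Polynomial P)
    letI := FractionRing.liftAlgebra (Polynomial P) k
    letI := FractionRing.liftAlgebra (Polynomial P) L
    haveI : FiniteDimensional Kx k := Module.Finite.of_isLocalization (Polynomial P) (Polynomial R) (nonZeroDivisors (Polynomial P))
    haveI : IsScalarTower Kx k L := .of_algebraMap_eq' (IsLocalization.ringHom_ext (nonZeroDivisors (Polynomial P)) (by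
      rw [RingHom.comp_assoc, ← IsScalarTower.algebraMap_eq (Polynomial P) Kx k,
        ← IsScalarTower.algebraMap_eq (Polynomial P) Kx L, ← IsScalarTower.algebraMap_eq (Polynomial P) k L]))
    haveI : FiniteDimensional Kx L := Module.Finite.trans k L
    haveI : Algebra.EssFiniteType (Polynomial R) k := Algebra.EssFiniteType.of_isLocalization k (nonZeroDivisors (Polynomial R))
    haveI : Algebra.EssFiniteType (Polynomial R) L := Algebra.EssFiniteType.comp (Polynomial R) k L
    haveI : Algebra.EssFiniteType (Localization.AtPrime n) L := Algebra.EssFiniteType.of_comp (Polynomial R) _ _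
    exact regular_completion_fibre (Polynomial P) (Polynomial R) n L (regular_poly_generic P n₀ Kx L)

end Pushout

/-- Adjoining a point of the line to a regular fibre. -/
theorem regular_line_point (R T L : Type u) [CommRing R] [CommRing T] [CommRing L] [Algebra (Polynomial R) T]
    [Algebra R T] [IsScalarTower R (Polynomial R) T] [Algebra (Polynomial R) L] [Algebra R L]
    [IsScalarTower R (Polynomial R) L] (h : IsRegularRing (T ⊗[R] L))
    (Δ : @Derivation ℤ (T ⊗[R] L) (T ⊗[R] L) _ _ _ (Ring.toIntAlgebra _) _ _)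
    (hΔ₀ : ∀ l : L, Δ (1 ⊗ₜ[R] l) = 0) (hΔ₁ : Δ (algebraMap (Polynomial R) T X ⊗ₜ[R] (1 : L)) = 1) :
    IsRegularRing (L ⊗[Polynomial R] T) := by
  haveI := h
  let g : T ⊗[R] L := algebraMap (Polynomial R) T X ⊗ₜ[R] (1 : L) - (1 : T) ⊗ₜ[R] algebraMap (Polynomial R) L X
  let Q := (T ⊗[R] L) ⧸ Ideal.span {g}
  have hg : Δ g = 1 := by
    simp only [g, map_sub, hΔ₀, hΔ₁, sub_zero]
  haveI hQ : IsRegularRing Q := by
    rw [isRegularRing_iff]
    intro P hP
    refine @regular_quotient_at (T ⊗[R] L) _ g Δ P hP inferInstance ?_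
    rw [hg, map_one]
    exact fun h => hP.ne_top ((Ideal.eq_top_iff_one _).2 h)
  let a : T →ₐ[Polynomial R] Q := IsScalarTower.toAlgHom (Polynomial R) T Q
  let b₀ : L →+* Q := (Ideal.Quotient.mk _).comp (Algebra.TensorProduct.includeRight : L →ₐ[R] T ⊗[R] L).toRingHom
  have hb : b₀.comp (algebraMap (Polynomial R) L) = algebraMap (Polynomial R) Q := by
    refine Polynomial.ringHom_ext' (RingHom.ext fun r => ?_) ?_
    · show Ideal.Quotient.mk _ ((1 : T) ⊗ₜ[R] algebraMap (Polynomial R) L (algebraMap R (Polynomial R) r)) =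
        Ideal.Quotient.mk _ (algebraMap (Polynomial R) T (algebraMap R (Polynomial R) r) ⊗ₜ[R] (1 : L))
      rw [← IsScalarTower.algebraMap_apply, ← IsScalarTower.algebraMap_apply, Algebra.algebraMap_eq_smul_one r,
        tmul_smul, smul_tmul', ← Algebra.algebraMap_eq_smul_one]
    · show Ideal.Quotient.mk _ ((1 : T) ⊗ₜ[R] algebraMap (Polynomial R) L X) =
        Ideal.Quotient.mk _ (algebraMap (Polynomial R) T X ⊗ₜ[R] (1 : L))
      rw [eq_comm, Ideal.Quotient.eq]
      exact Ideal.mem_span_singleton_self g
  let b : L →ₐ[Polynomial R] Q := ⟨b₀, fun r => RingHom.congr_fun hb r⟩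
  let ψ : T ⊗[Polynomial R] L →ₐ[Polynomial R] Q := Algebra.TensorProduct.lift a b fun _ _ => Commute.all _ _
  let i : T ⊗[R] L →ₐ[R] T ⊗[Polynomial R] L :=
    Algebra.TensorProduct.lift
      ((Algebra.TensorProduct.includeLeft : T →ₐ[Polynomial R] T ⊗[Polynomial R] L).restrictScalars R)
      ((Algebra.TensorProduct.includeRight : L →ₐ[Polynomial R] T ⊗[Polynomial R] L).restrictScalars R)
      fun _ _ => Commute.all _ _
  have hi : ∀ t l, i (t ⊗ₜ[R] l) = t ⊗ₜ[Polynomial R] l := fun t l => by
    rw [Algebra.TensorProduct.lift_tmul]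
    show (t ⊗ₜ[Polynomial R] (1 : L)) * ((1 : T) ⊗ₜ[Polynomial R] l) = _
    rw [Algebra.TensorProduct.tmul_mul_tmul, mul_one, one_mul]
  let φ : Q →+* T ⊗[Polynomial R] L := Ideal.Quotient.lift _ i.toRingHom fun x hx => by
    obtain ⟨c, rfl⟩ := Ideal.mem_span_singleton'.1 hx
    show i (c * g) = 0
    rw [map_mul, map_sub, hi, hi, Algebra.algebraMap_eq_smul_one X, Algebra.algebraMap_eq_smul_one X, smul_tmul,
      sub_self, mul_zero]
  have hψ : ∀ t l, ψ (t ⊗ₜ[Polynomial R] l) = Ideal.Quotient.mk _ (t ⊗ₜ[R] l) := fun t l => by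
    rw [Algebra.TensorProduct.lift_tmul]
    show Ideal.Quotient.mk _ (t ⊗ₜ[R] (1 : L)) * Ideal.Quotient.mk _ ((1 : T) ⊗ₜ[R] l) = _
    rw [← map_mul, Algebra.TensorProduct.tmul_mul_tmul, mul_one, one_mul]
  let e : Q ≃+* T ⊗[Polynomial R] L := RingEquiv.ofRingHom φ ψ.toRingHom
    (RingHom.ext fun x => by
      show φ (ψ x) = x
      induction x using TensorProduct.induction_on with
      | zero => rw [map_zero, map_zero]
      | add u v hu hv => rw [map_add, map_add, hu, hv]
      | tmul t l => rw [hψ]; exact hi t l)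
    (RingHom.ext fun x => by
      obtain ⟨x, rfl⟩ := Ideal.Quotient.mk_surjective x
      show ψ (i x) = Ideal.Quotient.mk _ x
      induction x using TensorProduct.induction_on with
      | zero => simp only [map_zero]
      | add u v hu hv => rw [map_add, map_add, hu, hv, map_add]
      | tmul t l => rw [hi, hψ])
  exact @IsRegularRing.of_ringEquiv _ _ _ _ (e.trans (Algebra.TensorProduct.comm (Polynomial R) T L).toRingEquiv) hQ

/-- Fibres of a completion map computed on a quotient. -/
theorem regular_fibre_of_surjection {A A₁ : Type u} [CommRing A] [CommRing A₁] [IsNoetherianRing A] [IsNoetherianRing A₁]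
    (π : A →+* A₁) (hπ : Function.Surjective π) (n : Ideal A) [n.IsPrime] (p : Ideal (Localization.AtPrime n)) [p.IsPrime]
    (hker : RingHom.ker π ≤ p.comap (algebraMap A (Localization.AtPrime n)))
    (H : ∀ (n₁ : Ideal A₁) [n₁.IsPrime] (k : Type u) [Field k] [Algebra A₁ k] (L : Type u) [Field L] [Algebra k L]
      [Module.Finite k L] [Algebra A₁ L] [IsScalarTower A₁ k L] [Algebra (Localization.AtPrime n₁) L]
      [IsScalarTower A₁ (Localization.AtPrime n₁) L],
      RingHom.ker (algebraMap A₁ k) = (p.comap (algebraMap A (Localization.AtPrime n))).map π →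
      (∀ z : k, ∃ a s : A₁, algebraMap A₁ k s ≠ 0 ∧ z = algebraMap A₁ k a / algebraMap A₁ k s) →
      IsRegularRing (L ⊗[Localization.AtPrime n₁] EGA4.Cpl (Localization.AtPrime n₁)))
    (k' : Type u) [Field k'] [Algebra p.ResidueField k'] [Module.Finite p.ResidueField k'] :
    IsRegularRing (k' ⊗[p.ResidueField] p.Fiber (EGA4.Cpl (Localization.AtPrime n))) := by
  let A' := Localization.AtPrime n
  let q := p.comap (algebraMap A A')
  have hqn : q ≤ n := fun x hx => (IsLocalization.AtPrime.to_map_mem_maximal_iff A' n x).1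
    (IsLocalRing.le_maximalIdeal (Ideal.IsPrime.ne_top ‹_›) hx)
  let n₁ : Ideal A₁ := n.map π
  haveI : n₁.IsPrime := Ideal.map_isPrime_of_surjective hπ (hker.trans hqn)
  have hcomap : n = n₁.comap π := by
    rw [Ideal.comap_map_of_surjective _ hπ, ← RingHom.ker_eq_comap_bot, sup_eq_left.2 (hker.trans hqn)]
  let A₁' := Localization.AtPrime n₁
  let π' : A' →+* A₁' := Localization.localRingHom n n₁ π hcomap
  letI : Algebra A' A₁' := π'.toAlgebra
  have hπ' : Function.Surjective π' := fun x => by
    obtain ⟨a, s, rfl⟩ := IsLocalization.exists_mk'_eq n₁.primeCompl x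
    obtain ⟨r, rfl⟩ := hπ a
    obtain ⟨t, ht⟩ := hπ (s : A₁)
    refine ⟨IsLocalization.mk' A' r (⟨t, fun h => s.2 (ht ▸ Ideal.mem_map_of_mem _ h)⟩ : n.primeCompl), ?_⟩
    rw [Localization.localRingHom_mk']
    congr 1
    exact Subtype.ext ht
  let k := p.ResidueField
  have hkq : ∀ a, algebraMap A k a = 0 ↔ a ∈ q := fun a => by
    rw [IsScalarTower.algebraMap_apply A A' k, Ideal.algebraMap_residueField_eq_zero]
    exact Iff.rfl
  let g : A₁ →+* k := RingHom.liftOfSurjective π hπ ⟨algebraMap A k, fun a ha => (hkq a).2 (hker ha)⟩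
  have hg : ∀ a, g (π a) = algebraMap A k a := fun a => RingHom.liftOfRightInverse_comp_apply ..
  letI : Algebra A₁ k := g.toAlgebra
  have hkerg : RingHom.ker (algebraMap A₁ k) = q.map π := by
    refine le_antisymm (fun a ha => ?_) (Ideal.map_le_iff_le_comap.2 fun a ha => ?_)
    · obtain ⟨a, rfl⟩ := hπ a
      exact Ideal.mem_map_of_mem _ ((hkq a).1 ((hg a).symm.trans ha))
    · exact (hg a).trans ((hkq a).2 ha)
  have hfrac : ∀ z : k, ∃ a s : A₁, algebraMap A₁ k s ≠ 0 ∧ z = algebraMap A₁ k a / algebraMap A₁ k s := by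
    have hA' : ∀ x : A', ∃ a s : A, algebraMap A k s ≠ 0 ∧ algebraMap A' k x = algebraMap A k a / algebraMap A k s := by
      intro x
      obtain ⟨r, s, rfl⟩ := IsLocalization.exists_mk'_eq n.primeCompl x
      have hs : algebraMap A k (s : A) ≠ 0 := fun h => s.2 (hqn ((hkq _).1 h))
      refine ⟨r, s, hs, ?_⟩
      rw [eq_div_iff hs, IsScalarTower.algebraMap_apply A A' k, ← map_mul, IsLocalization.mk'_spec,
        ← IsScalarTower.algebraMap_apply]
    intro z
    obtain ⟨x, y, hy, rfl⟩ := IsFractionRing.div_surjective (A' ⧸ p) z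
    obtain ⟨x, rfl⟩ := Ideal.Quotient.mk_surjective x
    obtain ⟨y, rfl⟩ := Ideal.Quotient.mk_surjective y
    obtain ⟨a, s, hs, hx⟩ := hA' x
    obtain ⟨b, t, ht, hy'⟩ := hA' y
    have hb : algebraMap A k b ≠ 0 := fun h => by
      rw [h, zero_div] at hy'
      exact IsFractionRing.to_map_ne_zero_of_mem_nonZeroDivisors hy hy'
    refine ⟨π (a * t), π (s * b), ?_, ?_⟩
    · show g _ ≠ 0
      rw [hg, map_mul]; exact mul_ne_zero hs hb
    · show algebraMap A' k x / algebraMap A' k y = g (π (a * t)) / g (π (s * b))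
      rw [hg, hg, hx, hy', map_mul, map_mul, div_div_div_eq]
  letI : Algebra A₁ k' := ((algebraMap k k').comp g).toAlgebra
  haveI : IsScalarTower A₁ k k' := .of_algebraMap_eq fun _ => rfl
  letI : Algebra A' k' := ((algebraMap k k').comp (algebraMap A' k)).toAlgebra
  haveI : IsScalarTower A' k k' := .of_algebraMap_eq fun _ => rfl
  have hunit : ∀ s : n₁.primeCompl, IsUnit (algebraMap A₁ k' (s : A₁)) := fun s => by
    refine isUnit_iff_ne_zero.2 fun h => s.2 ?_
    have h1 : (s : A₁) ∈ q.map π := hkerg ▸ (map_eq_zero (algebraMap k k')).1 h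
    exact Ideal.map_mono hqn h1
  letI : Algebra A₁' k' := (IsLocalization.lift hunit).toAlgebra
  haveI : IsScalarTower A₁ A₁' k' := .of_algebraMap_eq fun x => (IsLocalization.lift_eq hunit x).symm
  haveI : IsScalarTower A' A₁' k' := .of_algebraMap_eq' (IsLocalization.ringHom_ext n.primeCompl (RingHom.ext fun x => by
    show algebraMap k k' (algebraMap A' k (algebraMap A A' x)) = IsLocalization.lift hunit (π' (algebraMap A A' x))
    rw [Localization.localRingHom_to_map, IsLocalization.lift_eq, ← IsScalarTower.algebraMap_apply A A' k, ← hg]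
    rfl))
  haveI : IsLocalHom (algebraMap A' A₁') := Localization.isLocalHom_localRingHom n n₁ π hcomap
  exact @IsRegularRing.of_ringEquiv _ _ _ _
    (((Algebra.TensorProduct.congr (AlgEquiv.refl : k' ≃ₐ[A₁'] k') (FlatDepth.cplSurjEquiv A' A₁' hπ').symm).toRingEquiv.trans
      (Algebra.TensorProduct.cancelBaseChange A' A₁' A₁' k' (EGA4.Cpl A')).toRingEquiv).trans
      (Algebra.TensorProduct.cancelBaseChange A' k k k' (EGA4.Cpl A')).symm.toRingEquiv)
    (H n₁ k k' hkerg hfrac)

/-- Polynomial rings over complete local rings are G-rings. -/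
theorem isGRing_polynomial_of_complete (R : Type u) [CommRing R] [IsLocalRing R] [IsNoetherianRing R]
    [IsAdicComplete (maximalIdeal R) R] : CAlg.IsGRing (Polynomial R) := by
  refine ⟨inferInstance, fun n _ => ⟨AdicCompletion.flat_of_isNoetherian _, fun p _ => ?_⟩⟩
  refine ⟨isNoetherianRing_tensor_essFiniteType (Localization.AtPrime n) (EGA4.Cpl (Localization.AtPrime n)) p.ResidueField,
    fun k' _ _ hfin => ?_⟩
  haveI := hfin
  let q := p.comap (algebraMap (Polynomial R) (Localization.AtPrime n))
  let q₀ := q.comap (Polynomial.C : R →+* Polynomial R)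
  let R₁ := R ⧸ q₀
  obtain ⟨_, hc⟩ := completeLocal_of_finite R R₁
  haveI := hc
  let π : Polynomial R →+* Polynomial R₁ := mapRingHom (Ideal.Quotient.mk q₀)
  have hπ : Function.Surjective π := Polynomial.map_surjective _ Ideal.Quotient.mk_surjective
  have hker : RingHom.ker π ≤ q := by
    rw [Polynomial.ker_mapRingHom, Ideal.mk_ker, Ideal.map_le_iff_le_comap]
  refine regular_fibre_of_surjection π hπ n p hker ?_ k'
  intro n₁ _ k _ _ L _ _ _ _ _ _ _ hkerk hfrac
  have hC : Function.Injective ((algebraMap (Polynomial R₁) k).comp Polynomial.C) := by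
    rw [injective_iff_map_eq_zero]
    intro a ha
    obtain ⟨r, rfl⟩ := Ideal.Quotient.mk_surjective a
    have h1 : π (Polynomial.C r) ∈ q.map π := hkerk ▸ (show π (Polynomial.C r) ∈ RingHom.ker (algebraMap (Polynomial R₁) k) from by
      rw [RingHom.mem_ker]
      show algebraMap (Polynomial R₁) k ((Polynomial.C r).map _) = 0
      rw [Polynomial.map_C]
      exact ha)
    rw [← Ideal.mem_comap, Ideal.comap_map_of_surjective _ hπ, ← RingHom.ker_eq_comap_bot, sup_eq_left.2 hker] at h1
    exact Ideal.Quotient.eq_zero_iff_mem.2 h1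
  by_cases hbot : RingHom.ker (algebraMap (Polynomial R₁) k) = ⊥
  · haveI : FaithfulSMul (Polynomial R₁) k := (faithfulSMul_iff_algebraMap_injective _ _).2
      ((RingHom.injective_iff_ker_eq_bot _).2 hbot)
    haveI : IsFractionRing (Polynomial R₁) k := IsFractionRing.of_field _ k fun z => by
      obtain ⟨a, s, -, hz⟩ := hfrac z
      exact ⟨a, s, hz⟩
    exact (regular_poly_domain R₁ n₁).2 k L
  · letI : Algebra R₁ k := ((algebraMap (Polynomial R₁) k).comp Polynomial.C).toAlgebra
    haveI : IsScalarTower R₁ (Polynomial R₁) k := .of_algebraMap_eq fun _ => rfl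
    letI : Algebra R₁ L := ((algebraMap (Polynomial R₁) L).comp Polynomial.C).toAlgebra
    haveI : IsScalarTower R₁ (Polynomial R₁) L := .of_algebraMap_eq fun _ => rfl
    haveI : IsScalarTower R₁ k L := .of_algebraMap_eq fun x =>
      IsScalarTower.algebraMap_apply (Polynomial R₁) k L (Polynomial.C x)
    let K₁ := FractionRing R₁
    letI : Algebra K₁ k := (IsFractionRing.lift (g := algebraMap R₁ k) hC).toAlgebra
    haveI : IsScalarTower R₁ K₁ k := .of_algebraMap_eq fun x => (IsFractionRing.lift_algebraMap hC x).symm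
    letI : Algebra K₁ L := ((algebraMap k L).comp (algebraMap K₁ k)).toAlgebra
    haveI : IsScalarTower K₁ k L := .of_algebraMap_eq fun _ => rfl
    haveI : IsScalarTower R₁ K₁ L := .of_algebraMap_eq fun x => by
      show _ = algebraMap k L (algebraMap K₁ k (algebraMap R₁ K₁ x))
      rw [← IsScalarTower.algebraMap_apply R₁ K₁ k, ← IsScalarTower.algebraMap_apply R₁ k L]
    let θ := algebraMap (Polynomial R₁) k X
    have heval : ∀ f : Polynomial R₁, algebraMap (Polynomial R₁) k f = aeval θ f := fun f => by
      exact DFunLike.congr_fun (Polynomial.algHom_ext (f := IsScalarTower.toAlgHom R₁ (Polynomial R₁) k) (g := aeval θ) (by rw [aeval_X]; rfl)) f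
    obtain ⟨f, hf, hf0⟩ := Submodule.exists_mem_ne_zero_of_ne_bot hbot
    have halg : IsAlgebraic R₁ θ := ⟨f, hf0, by rw [← heval]; exact hf⟩
    have hint : IsIntegral K₁ θ := (halg.extendScalars (FaithfulSMul.algebraMap_injective R₁ K₁)).isIntegral
    have htop : IntermediateField.adjoin K₁ {θ} = ⊤ := eq_top_iff.2 fun z _ => by
      obtain ⟨a, s, -, hz⟩ := hfrac z
      have h1 : ∀ f : Polynomial R₁, algebraMap (Polynomial R₁) k f ∈ IntermediateField.adjoin K₁ {θ} := fun f => by
        rw [heval, ← Polynomial.aeval_map_algebraMap K₁]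
        exact IntermediateField.algebra_adjoin_le_adjoin _ _ (aeval_mem_adjoin_singleton _ _)
      rw [hz]
      exact div_mem (h1 a) (h1 s)
    haveI : FiniteDimensional K₁ k := by
      haveI := IntermediateField.adjoin.finiteDimensional hint
      exact Module.Finite.equiv ((IntermediateField.equivOfEq htop).trans IntermediateField.topEquiv).toLinearEquiv
    haveI : FiniteDimensional K₁ L := Module.Finite.trans k L
    let T := EGA4.Cpl (Localization.AtPrime n₁)
    obtain ⟨Δ, hΔ₀, hΔ₁⟩ := exists_dX R₁ n₁ L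
    have hreg : IsRegularRing (T ⊗[R₁] L) := @IsRegularRing.of_ringEquiv _ _ _ _
      (Algebra.TensorProduct.comm R₁ L T).toRingEquiv ((regular_poly_domain R₁ n₁).1 K₁ L)
    have h2 : IsRegularRing (L ⊗[Polynomial R₁] T) := regular_line_point R₁ T L hreg Δ hΔ₀ hΔ₁
    haveI := IsLocalization.tensorProduct_compatibleSMul n₁.primeCompl (Localization.AtPrime n₁) L T
    exact @IsRegularRing.of_ringEquiv _ _ _ _
      (Algebra.TensorProduct.equivOfCompatibleSMul (Polynomial R₁) (Localization.AtPrime n₁) L L T).symm.toRingEquiv h2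

end Groth.Agent.CplDomain
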