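import Groth.Agent.Lib.RegLoc.Quotient
import Groth.Agent.Lib.FlatDepth.GenericSmooth
import Mathlib.RingTheory.Derivation.MapCoeffs
import Mathlib

/-! # Adjoining a `p`-th root along a derivation preserves regular points -/

set_option autoImplicit false
universe u

open IsLocalRing

namespace Groth.Agent.CplDomain

/-- Cutting at a regular point by an element on which a derivation does not vanish. -/
theorem regular_quotient_at {R : Type u} [CommRing R] (f : R) (D : Derivation ℤ R R)
    (P : Ideal (R ⧸ Ideal.span {f})) [P.IsPrime]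
    [IsRegularLocalRing (Localization.AtPrime (P.comap (Ideal.Quotient.mk (Ideal.span {f}))))]
    (hD : Ideal.Quotient.mk (Ideal.span {f}) (D f) ∉ P) :
    IsRegularLocalRing (Localization.AtPrime P) := by
  set q := P.comap (Ideal.Quotient.mk (Ideal.span {f}))
  have hfq : f ∈ q := by
    show Ideal.Quotient.mk (Ideal.span {f}) f ∈ P
    rw [Ideal.Quotient.eq_zero_iff_mem.2 (Ideal.mem_span_singleton_self f)]; exact zero_mem _
  have hDq : D f ∉ q := hD
  have hfm : algebraMap R (Localization.AtPrime q) f ∈ maximalIdeal (Localization.AtPrime q) := by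
    rw [← Localization.AtPrime.map_eq_maximalIdeal]; exact Ideal.mem_map_of_mem _ hfq
  have hf2 : algebraMap R (Localization.AtPrime q) f ∉ maximalIdeal (Localization.AtPrime q) ^ 2 := by
    rw [← Localization.AtPrime.map_eq_maximalIdeal, ← Ideal.map_pow,
      IsLocalization.algebraMap_mem_map_algebraMap_iff q.primeCompl]
    rintro ⟨s, hs, hsf⟩
    have h1 := RegLoc.derivation_mem_of_mem_sq D hsf
    rw [D.leibniz, smul_eq_mul, smul_eq_mul, q.add_mem_iff_left (Ideal.mul_mem_right _ _ hfq)] at h1
    exact hDq ((Ideal.IsPrime.mem_or_mem inferInstance h1).resolve_left hs)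
  obtain ⟨_, -⟩ := RegLoc.quotient_span_singleton hfm hf2
  haveI : IsRegularLocalRing (Localization.AtPrime q ⧸ (Ideal.span ({f} : Set R)).map (algebraMap R (Localization.AtPrime q))) :=
    IsRegularLocalRing.of_ringEquiv (Ideal.quotEquivOfEq (by rw [Ideal.map_span, Set.image_singleton]))
  exact RegLoc.isRegularLocalRing_localization_quotient _ P

theorem regular_congr {R : Type u} [CommRing R] {q q' : Ideal R} [q.IsPrime] [q'.IsPrime] (h : q = q')
    [IsRegularLocalRing (Localization.AtPrime q)] : IsRegularLocalRing (Localization.AtPrime q') := by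
  subst h
  assumption

/-- Adjoining a `p`-th root. -/
abbrev RootExt (R : Type u) [CommRing R] (p : ℕ) (f : R) : Type u :=
  AdjoinRoot (Polynomial.X ^ p - Polynomial.C f)

theorem regular_rootExt_at {R : Type u} [CommRing R] [IsNoetherianRing R] (p : ℕ) (f : R)
    (D : Derivation ℤ R R) (P : Ideal (RootExt R p f)) [P.IsPrime]
    [hreg : IsRegularLocalRing (Localization.AtPrime (P.comap (algebraMap R (RootExt R p f))))]
    (hD : algebraMap R (RootExt R p f) (D f) ∉ P) :
    IsRegularLocalRing (Localization.AtPrime P) := by
  letI : Differential R := ⟨D⟩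
  let Q : Ideal (Polynomial R) := P.comap (AdjoinRoot.mk (Polynomial.X ^ p - Polynomial.C f))
  haveI : Q.IsPrime := Ideal.IsPrime.comap _
  have hQ : Q.comap (algebraMap R (Polynomial R)) = P.comap (algebraMap R (RootExt R p f)) := Ideal.comap_comap ..
  haveI : IsRegularLocalRing (Localization.AtPrime (Q.comap (algebraMap R (Polynomial R)))) :=
    regular_congr hQ.symm
  haveI : Algebra.Smooth R (Polynomial R) := ⟨inferInstance, inferInstance⟩
  haveI hQreg : IsRegularLocalRing (Localization.AtPrime Q) := FlatDepth.regular_of_smooth (A := R) Q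
  have hder : Differential.mapCoeffs (Polynomial.X ^ p - Polynomial.C f : Polynomial R) = -Polynomial.C (D f) := by
    rw [map_sub, Differential.mapCoeffs_C, Polynomial.X_pow_eq_monomial, Differential.mapCoeffs_monomial,
      show (Differential.deriv : Derivation ℤ R R) 1 = 0 from Derivation.map_one_eq_zero D, map_zero, zero_sub]
    rfl
  have key : AdjoinRoot.mk (Polynomial.X ^ p - Polynomial.C f)
      (Differential.mapCoeffs (Polynomial.X ^ p - Polynomial.C f)) ∉ P := by
    rw [hder, map_neg, neg_mem_iff]
    exact hD
  haveI hP : (P : Ideal (Polynomial R ⧸ Ideal.span {Polynomial.X ^ p - Polynomial.C f})).IsPrime := ‹P.IsPrime›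
  refine @regular_quotient_at (Polynomial R) _ (Polynomial.X ^ p - Polynomial.C f) Differential.mapCoeffs P hP hQreg key

end Groth.Agent.CplDomain
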