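import Groth.Agent.Lib.CplDomain.RootRegular
import Groth.Agent.Lib.FlatDepth.J2
import Groth.Agent.S9405
import Mathlib

/-! # Towers of finite domains over a complete local domain -/

set_option autoImplicit false
universe u

open IsLocalRing Polynomial

namespace Groth.Agent.CplDomain

/-- Induction along finite extensions: separable extensions and `p`-th roots. -/
theorem tower_induction (K : Type u) [Field K] (motive : ∀ (L : Type u) [Field L] [Algebra K L], Prop)
    (sep : ∀ (L : Type u) [Field L] [Algebra K L] [FiniteDimensional K L] [Algebra.IsSeparable K L], motive L)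
    (step : ∀ (L : Type u) [Field L] [Algebra K L] [FiniteDimensional K L] (p : ℕ) [Fact p.Prime] [CharP K p]
      (M : IntermediateField K L) (y : L), y ∉ M → y ^ p ∈ M → Algebra.adjoin M {y} = ⊤ → motive M → motive L) :
    ∀ (L : Type u) [Field L] [Algebra K L] [FiniteDimensional K L], motive L := by
  intro L _ _ _
  induction hn : Module.finrank K L using Nat.strong_induction_on generalizing L with
  | _ N ih =>
  by_cases hs : Algebra.IsSeparable K L
  · exact sep L
  have hE : separableClosure K L ≠ ⊤ := fun h => hs ((separableClosure.eq_top_iff K L).1 h)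
  obtain ⟨p, hq⟩ := ExpChar.exists K
  cases hq with
  | zero => exact absurd (inferInstance : Algebra.IsSeparable K L) hs
  | prime hp =>
  haveI := Fact.mk hp
  obtain ⟨M, ⟨hEM, hMtop⟩, hmax⟩ := (InvImage.wf (fun M : IntermediateField K L => Module.finrank K L - Module.finrank K M)
    (wellFounded_lt (α := ℕ))).has_min {M | separableClosure K L ≤ M ∧ M ≠ ⊤} ⟨_, le_rfl, hE⟩
  obtain ⟨z, -, hz⟩ := SetLike.exists_of_lt (lt_top_iff_ne_top.mpr hMtop)
  letI : Algebra (separableClosure K L) M := (IntermediateField.inclusion hEM).toRingHom.toAlgebra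
  haveI : IsScalarTower (separableClosure K L) M L := .of_algebraMap_eq fun _ => rfl
  haveI : IsPurelyInseparable M L := IsPurelyInseparable.tower_top (F := separableClosure K L) (E := M) (K := L)
  haveI : ExpChar M p := expChar_of_injective_algebraMap (algebraMap K M).injective p
  obtain ⟨m, hm⟩ : ∃ m : ℕ, z ^ p ^ m ∈ M := by
    obtain ⟨m, a, ha⟩ := IsPurelyInseparable.pow_mem M p z
    exact ⟨m, ha ▸ a.2⟩
  classical
  have hex : ∃ m, z ^ p ^ m ∈ M := ⟨m, hm⟩
  have hpos : Nat.find hex ≠ 0 := fun h => hz (by simpa [h] using Nat.find_spec hex)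
  obtain ⟨j, hj⟩ := Nat.exists_eq_succ_of_ne_zero hpos
  set y := z ^ p ^ j
  have hy : y ∉ M := Nat.find_min hex (by omega)
  have hyp : y ^ p ∈ M := by
    rw [← pow_mul, ← pow_succ]
    have := Nat.find_spec hex
    rwa [hj] at this
  have htop : M ⊔ IntermediateField.adjoin K {y} = ⊤ := by
    by_contra hne
    refine hmax _ ⟨hEM.trans le_sup_left, hne⟩ ?_
    have hle : M ≤ M ⊔ IntermediateField.adjoin K {y} := le_sup_left
    have hne' : M ≠ M ⊔ IntermediateField.adjoin K {y} := fun h => hy (by
      rw [h]; exact (le_sup_right : _ ≤ M ⊔ _) (IntermediateField.mem_adjoin_simple_self K y))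
    have h1 : Module.finrank K M < Module.finrank K ↥(M ⊔ IntermediateField.adjoin K {y}) :=
      Submodule.finrank_lt_finrank_of_lt (s := M.toSubalgebra.toSubmodule)
        (t := (M ⊔ IntermediateField.adjoin K {y}).toSubalgebra.toSubmodule) (lt_of_le_of_ne hle fun h => hne' (IntermediateField.toSubalgebra_injective (Subalgebra.toSubmodule_injective h)))
    have h2 : Module.finrank K ↥(M ⊔ IntermediateField.adjoin K {y}) ≤ Module.finrank K L :=
      Submodule.finrank_le (M ⊔ IntermediateField.adjoin K {y}).toSubalgebra.toSubmodule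
    show Module.finrank K L - _ < Module.finrank K L - _
    omega
  have hM' : IntermediateField.adjoin M {y} = ⊤ := by
    apply IntermediateField.restrictScalars_injective K
    rw [IntermediateField.restrictScalars_top, eq_top_iff, ← htop, sup_le_iff]
    refine ⟨fun x hx => ?_, IntermediateField.adjoin_le_iff.mpr ?_⟩
    · exact (IntermediateField.adjoin M {y}).algebraMap_mem ⟨x, hx⟩
    · rintro _ rfl
      exact IntermediateField.mem_adjoin_simple_self M _
  refine step L p M y hy hyp ?_ (ih _ ?_ M rfl)
  · rw [← IntermediateField.adjoin_simple_toSubalgebra_of_isAlgebraic (Algebra.IsAlgebraic.isAlgebraic y), hM',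
      IntermediateField.top_toSubalgebra]
  · subst hn
    refine (Submodule.finrank_lt (s := M.toSubalgebra.toSubmodule) ?_).trans_eq' rfl
    intro h
    exact hMtop (IntermediateField.toSubalgebra_injective (Subalgebra.toSubmodule_injective
      (by rw [h, IntermediateField.top_toSubalgebra, Algebra.top_toSubmodule])))

/-- A domain finite over a complete local ring is complete local. -/
theorem completeLocal_of_finite (R : Type u) [CommRing R] [IsLocalRing R] [IsNoetherianRing R]
    [IsAdicComplete (maximalIdeal R) R] (C : Type u) [CommRing C] [IsDomain C] [Algebra R C] [Module.Finite R C] :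
    ∃ _ : IsLocalRing C, IsAdicComplete (maximalIdeal C) C := by
  classical
  obtain ⟨-, hbij, hloc⟩ := S9405.result R C
  obtain ⟨M₁, hM₁⟩ := Ideal.exists_maximal C
  let m : MaximalSpectrum C := ⟨M₁, hM₁⟩
  have hinj : Function.Injective (algebraMap C (Localization.AtPrime m.asIdeal)) :=
    IsLocalization.injective _ m.asIdeal.primeCompl_le_nonZeroDivisors
  have hsurj : Function.Surjective (algebraMap C (Localization.AtPrime m.asIdeal)) := fun y => by
    obtain ⟨x, hx⟩ := hbij.2 (Function.update (0 : ∀ n : MaximalSpectrum C, Localization.AtPrime n.asIdeal) m y)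
    exact ⟨x, (congrFun hx m).trans (Function.update_self _ _ _)⟩
  let e : Localization.AtPrime m.asIdeal ≃+* C :=
    (RingEquiv.ofBijective (algebraMap C (Localization.AtPrime m.asIdeal)) ⟨hinj, hsurj⟩).symm
  haveI : IsLocalRing C := IsLocalRing.of_surjective' (e : Localization.AtPrime m.asIdeal →+* C) e.surjective
  haveI := (hloc m).2
  refine ⟨inferInstance, ?_⟩
  rw [← IsLocalRing.map_maximalIdeal_of_surjective (e : Localization.AtPrime m.asIdeal →+* C) e.surjective]
  exact (IsAdicComplete.congr_ringEquiv (maximalIdeal (Localization.AtPrime m.asIdeal)) e).mpr inferInstance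

/-- A generator of a `p`-th root extension can be chosen integral over a given model. -/
theorem exists_scaled_root (C : Type u) [CommRing C] [IsDomain C] (M : Type u) [Field M] [Algebra C M]
    [IsFractionRing C M] (L : Type u) [Field L] [Algebra M L] (p : ℕ) (hp : 0 < p) (y : L)
    (hy : y ∉ (algebraMap M L).range) (hyp : y ^ p ∈ (algebraMap M L).range) (htop : Algebra.adjoin M {y} = ⊤) :
    ∃ (y' : L) (f : C), y' ^ p = algebraMap M L (algebraMap C M f) ∧ y' ∉ (algebraMap M L).range ∧
      Algebra.adjoin M {y'} = ⊤ := by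
  obtain ⟨m, hm⟩ := hyp
  obtain ⟨a, d, hd, he⟩ := IsFractionRing.div_surjective C m
  have hd0 : algebraMap C M d ≠ 0 := (map_ne_zero_iff _ (IsFractionRing.injective C M)).mpr (nonZeroDivisors.ne_zero hd)
  have hd' : algebraMap M L (algebraMap C M d) ≠ 0 := (_root_.map_ne_zero _).mpr hd0
  have hy0 : y = (algebraMap M L (algebraMap C M d))⁻¹ * (algebraMap M L (algebraMap C M d) * y) := by
    rw [inv_mul_cancel_left₀ hd']
  refine ⟨algebraMap M L (algebraMap C M d) * y, d ^ (p - 1) * a, ?_, ?_, ?_⟩
  · rw [mul_pow, ← hm, ← map_pow, ← map_mul, ← he, map_mul, map_pow]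
    congr 1
    obtain ⟨j, rfl⟩ := Nat.exists_eq_add_of_le hp
    rw [show (0 : ℕ).succ + j - 1 = j by omega, show (0 : ℕ).succ + j = j + 1 by omega, pow_succ, map_mul,
      map_pow, map_mul, map_pow, map_div₀]
    field_simp
  · rintro ⟨w, hw⟩
    refine hy ⟨(algebraMap C M d)⁻¹ * w, ?_⟩
    rw [map_mul, map_inv₀, hw, ← hy0]
  · rw [eq_top_iff, ← htop, Algebra.adjoin_le_iff, Set.singleton_subset_iff]
    have hmem : (algebraMap M L) (algebraMap C M d)⁻¹ * ((algebraMap M L) (algebraMap C M d) * y) ∈
        Algebra.adjoin M {(algebraMap M L) (algebraMap C M d) * y} :=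
      mul_mem (Subalgebra.algebraMap_mem _ _) (Algebra.subset_adjoin (Set.mem_singleton _))
    rwa [map_inv₀, ← hy0] at hmem

section Root

variable {C : Type u} [CommRing C] [IsDomain C] {M : Type u} [Field M] [Algebra C M] [IsFractionRing C M]
  {L : Type u} [Field L] [Algebra M L] [Algebra C L] [IsScalarTower C M L]

/-- The map from the `p`-th root extension to the field. -/
noncomputable def rootHom (p : ℕ) (f : C) (y : L) (hy : y ^ p = algebraMap C L f) : RootExt C p f →ₐ[C] L :=
  AdjoinRoot.liftAlgHom _ (Algebra.ofId C L) y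
    (show Polynomial.eval₂ (algebraMap C L) y (X ^ p - Polynomial.C f) = 0 by simp [hy])

theorem rootHom_mk (p : ℕ) (f : C) (y : L) (hy : y ^ p = algebraMap C L f) (g : Polynomial C) :
    rootHom p f y hy (AdjoinRoot.mk _ g) = aeval y g := by
  exact AdjoinRoot.liftAlgHom_mk ..

theorem not_pow_of_root (p : ℕ) [Fact p.Prime] [CharP L p] (f : C) (y : L) (hy : y ^ p = algebraMap C L f)
    (hyM : y ∉ (algebraMap M L).range) : ∀ z : M, z ^ p ≠ algebraMap C M f := fun z hz => by
  refine hyM ⟨z, frobenius_inj L p ?_⟩
  show algebraMap M L z ^ p = y ^ p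
  rw [← map_pow, hz, hy, ← IsScalarTower.algebraMap_apply]

theorem rootHom_injective (p : ℕ) [Fact p.Prime] [CharP L p] (f : C) (y : L) (hy : y ^ p = algebraMap C L f)
    (hyM : y ∉ (algebraMap M L).range) : Function.Injective (rootHom p f y hy) := by
  have hirr : Irreducible (X ^ p - Polynomial.C (algebraMap C M f)) :=
    X_pow_sub_C_irreducible_of_prime Fact.out (not_pow_of_root p f y hy hyM)
  have hmin : X ^ p - Polynomial.C (algebraMap C M f) = minpoly M y :=
    minpoly.eq_of_irreducible_of_monic hirr (by simp [hy, ← IsScalarTower.algebraMap_apply])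
      (monic_X_pow_sub_C _ (Fact.out : p.Prime).ne_zero)
  have hmonic : (X ^ p - Polynomial.C f).Monic := monic_X_pow_sub_C _ (Fact.out : p.Prime).ne_zero
  rw [injective_iff_map_eq_zero]
  intro x hx
  obtain ⟨g, rfl⟩ := AdjoinRoot.mk_surjective x
  rw [rootHom_mk] at hx
  rw [AdjoinRoot.mk_eq_zero, ← Polynomial.map_dvd_map (algebraMap C M) (IsFractionRing.injective C M) hmonic,
    Polynomial.map_sub, Polynomial.map_pow, Polynomial.map_X, Polynomial.map_C, hmin]
  exact minpoly.dvd M y (by rw [Polynomial.aeval_map_algebraMap, hx])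

/-- The root extension is a model of the field. -/
theorem isFractionRing_rootExt (p : ℕ) [Fact p.Prime] [CharP L p] (f : C) (y : L) (hy : y ^ p = algebraMap C L f)
    (hyM : y ∉ (algebraMap M L).range) (htop : Algebra.adjoin M {y} = ⊤) :
    IsDomain (RootExt C p f) ∧ @IsFractionRing (RootExt C p f) _ L _ (rootHom p f y hy).toRingHom.toAlgebra := by
  have hinj := rootHom_injective p f y hy hyM
  haveI : IsDomain (RootExt C p f) := hinj.isDomain (rootHom p f y hy).toRingHom
  letI := (rootHom p f y hy).toRingHom.toAlgebra
  haveI : FaithfulSMul (RootExt C p f) L := (faithfulSMul_iff_algebraMap_injective _ _).mpr hinj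
  refine ⟨inferInstance, IsFractionRing.of_field _ L fun z => ?_⟩
  obtain ⟨g, rfl⟩ : ∃ g : Polynomial M, aeval y g = z := by
    have : z ∈ Algebra.adjoin M {y} := htop ▸ trivial
    rwa [Algebra.adjoin_singleton_eq_range_aeval] at this
  obtain ⟨b, hb, hg⟩ := IsLocalization.integerNormalization_spec (nonZeroDivisors C) g
  refine ⟨AdjoinRoot.mk _ (IsLocalization.integerNormalization (nonZeroDivisors C) g), algebraMap C _ b, ?_⟩
  have hb0 : algebraMap C L b ≠ 0 := by
    rw [IsScalarTower.algebraMap_apply C M L]
    exact (_root_.map_ne_zero _).mpr ((map_ne_zero_iff _ (IsFractionRing.injective C M)).mpr (nonZeroDivisors.ne_zero hb))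
  show aeval y g = rootHom p f y hy (AdjoinRoot.mk _ _) / rootHom p f y hy (algebraMap C _ b)
  rw [AlgHom.commutes, rootHom_mk, eq_div_iff hb0]
  have h1 : aeval y ((IsLocalization.integerNormalization (nonZeroDivisors C) g).map (algebraMap C M)) =
      algebraMap C L b * aeval y g := by
    rw [hg, AlgHom.map_smul_of_tower, Algebra.smul_def]
  rw [Polynomial.aeval_map_algebraMap] at h1
  rw [h1, mul_comm]

end Root

variable (P : Type u) [CommRing P] [IsDomain P] [IsNoetherianRing P] (K : Type u) [Field K] [Algebra P K]
  [IsFractionRing P K]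

/-- Every finite domain over `P` with fraction field `L` is generically good. -/
def GenOpen (G : FlatDepth.GoodLocus.{u}) (L : Type u) [Field L] [Algebra K L] : Prop :=
  ∀ [Algebra P L] [IsScalarTower P K L] (A : Type u) [CommRing A] [IsDomain A] [Algebra P A] [Algebra A L]
    [IsScalarTower P A L] [IsFractionRing A L] [Module.Finite P A],
    ∃ U : Set (PrimeSpectrum A), IsOpen U ∧ U.Nonempty ∧ U ⊆ G.L A

/-- Generic openness only depends on the fraction field. -/
theorem open_transfer (G : FlatDepth.GoodLocus.{u}) (L : Type u) [Field L] [Algebra P L]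
    (B : Type u) [CommRing B] [IsDomain B] [Algebra P B] [Algebra B L] [IsScalarTower P B L] [IsFractionRing B L]
    [Module.Finite P B] (hB : ∃ U : Set (PrimeSpectrum B), IsOpen U ∧ U.Nonempty ∧ U ⊆ G.L B)
    (A : Type u) [CommRing A] [IsDomain A] [Algebra P A] [Algebra A L] [IsScalarTower P A L] [IsFractionRing A L]
    [Module.Finite P A] : ∃ U : Set (PrimeSpectrum A), IsOpen U ∧ U.Nonempty ∧ U ⊆ G.L A := by
  let a := IsScalarTower.toAlgHom P A L
  let b := IsScalarTower.toAlgHom P B L
  let D := a.range ⊔ b.range
  have hD : D.toSubmodule.FG := by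
    rw [← Subalgebra.mul_toSubmodule]
    exact (Module.Finite.iff_fg.mp (Module.Finite.range a.toLinearMap)).mul
      (Module.Finite.iff_fg.mp (Module.Finite.range b.toLinearMap))
  haveI : Module.Finite P D := Module.Finite.iff_fg.mpr hD
  let fA : A →+* D := (a.codRestrict D fun x => (le_sup_left : a.range ≤ D) ⟨x, rfl⟩).toRingHom
  let fB : B →+* D := (b.codRestrict D fun x => (le_sup_right : b.range ≤ D) ⟨x, rfl⟩).toRingHom
  letI := fA.toAlgebra
  letI := fB.toAlgebra
  haveI : IsScalarTower P A D := .of_algebraMap_eq fun x => Subtype.ext (a.commutes x).symm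
  haveI : IsScalarTower P B D := .of_algebraMap_eq fun x => Subtype.ext (b.commutes x).symm
  haveI : IsScalarTower A D L := .of_algebraMap_eq fun x => rfl
  haveI : IsScalarTower B D L := .of_algebraMap_eq fun x => rfl
  haveI : Module.Finite A D := Module.Finite.of_restrictScalars_finite P A D
  haveI : Module.Finite B D := Module.Finite.of_restrictScalars_finite P B D
  haveI : FaithfulSMul B D := (faithfulSMul_iff_algebraMap_injective _ _).mpr fun x y h =>
    IsFractionRing.injective B L (congrArg Subtype.val h :)
  haveI : IsFractionRing D L := IsFractionRing.of_field D L fun z => by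
    obtain ⟨x, y, -, h⟩ := IsFractionRing.div_surjective B z
    exact ⟨algebraMap B D x, algebraMap B D y, h.symm⟩
  haveI : IsNoetherianRing B := IsNoetherianRing.of_finite P B
  haveI : IsNoetherianRing A := IsNoetherianRing.of_finite P A
  haveI : Algebra.FormallySmooth B L := Algebra.FormallySmooth.of_isLocalization (nonZeroDivisors B)
  exact G.open_of_extension A D (fun x y h => IsFractionRing.injective A L (congrArg Subtype.val h :))
    (G.open_of_separable B D L hB)

/-- Separable extensions are generically good over a good base. -/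
theorem genOpen_of_separable (G : FlatDepth.GoodLocus.{u})
    (hP : ∃ U : Set (PrimeSpectrum P), IsOpen U ∧ U.Nonempty ∧ U ⊆ G.L P)
    (L : Type u) [Field L] [Algebra K L] [FiniteDimensional K L] [Algebra.IsSeparable K L] :
    GenOpen P K G L := by
  intro _ _ A _ _ _ _ _ _ _
  haveI : FaithfulSMul P A := (faithfulSMul_iff_algebraMap_injective _ _).mpr fun x y h => by
    have := congrArg (algebraMap A L) h
    rw [← IsScalarTower.algebraMap_apply, ← IsScalarTower.algebraMap_apply, IsScalarTower.algebraMap_apply P K L,
      IsScalarTower.algebraMap_apply P K L] at this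
    exact IsFractionRing.injective P K ((algebraMap K L).injective this)
  haveI : Algebra.FormallyEtale K L := Algebra.FormallyEtale.of_isSeparable K L
  haveI : Algebra.FormallySmooth P K := Algebra.FormallySmooth.of_isLocalization (nonZeroDivisors P)
  haveI : Algebra.FormallySmooth P L := Algebra.FormallySmooth.comp P K L
  exact G.open_of_separable P A L hP

end Groth.Agent.CplDomain
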